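import Mathlib
import Cfsg.Agent.Blocks.SylowIn
import Cfsg.Agent.LieClassical.HermPerfect
import Cfsg.Agent.LieClassical.HermSimple
set_option linter.all false

-- part: H273/RankOneSyl
section
/-!
# Rigidity of groups with a "rank one" set of Sylow `p`-subgroups

* `RankOneSyl p K` : `K` is perfect, the elements normalising all Sylow `p`-subgroups are central, each Sylow subgroup `U`
  is transitive on the other ones, and some element normalises exactly `U` and one other Sylow subgroup;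
* `RankOneSyl.rigid` : an automorphism which is trivial on the normaliser of a Sylow `p`-subgroup is trivial;
* `RankOneSyl.map` : quotients by central `p'`-subgroups;
* `VecData` : a group acting on a vector space (points = lines spanned by the vectors of a set `I`) with this property.
-/

set_option autoImplicit false
set_option linter.unusedSectionVars false

open Subgroup
open scoped Pointwise commutatorElement

namespace Cfsg.Agent.H273

/-- A rank one set of Sylow subgroups. -/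
structure RankOneSyl (p : ℕ) (K : Type*) [Group K] : Prop where
  perf : ⁅(⊤ : Subgroup K), (⊤ : Subgroup K)⁆ = (⊤ : Subgroup K)
  ker : ∀ k : K, (∀ V : Sylow p K, k ∈ normalizer (V : Set K)) → k ∈ center K
  tor : ∀ U : Sylow p K, ∃ (U₀ : Sylow p K) (t : K), U₀ ≠ U ∧ t ∈ normalizer (U : Set K) ∧
    t ∈ normalizer (U₀ : Set K) ∧ ∀ V : Sylow p K, t ∈ normalizer (V : Set K) → V = U ∨ V = U₀
  trans : ∀ U V W : Sylow p K, V ≠ U → W ≠ U → ∃ u ∈ (U : Subgroup K), u • V = W

namespace RankOneSyl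

section Rigid

variable {K : Type*} [Group K] {p : ℕ}

theorem smul_smul_eq (γ : MulAut K) (k : K) (V : Sylow p K) : γ • (k • V) = γ k • (γ • V) := by
  rw [Sylow.smul_def, Sylow.smul_def, ← mul_smul, ← mul_smul]
  congr 1
  ext x
  show γ (k * x * k⁻¹) = γ k * γ x * (γ k)⁻¹
  rw [map_mul, map_mul, map_inv]

/-- **Rigidity.** -/
theorem rigid (h : RankOneSyl p K) (γ : MulAut K) (U : Sylow p K)
    (hγ : ∀ b ∈ normalizer (U : Set K), γ b = b) : γ = 1 := by
  have hUn : ∀ u ∈ (U : Subgroup K), u ∈ normalizer (U : Set K) := fun u hu => le_normalizer hu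
  have hU : γ • U = U := by
    apply Sylow.ext
    rw [Sylow.pointwise_smul_def]
    ext x
    constructor
    · rintro ⟨u, hu, rfl⟩
      show γ u ∈ (U : Subgroup K)
      rw [hγ u (hUn u hu)]; exact hu
    · intro hx
      exact ⟨x, hx, hγ x (hUn x hx)⟩
  obtain ⟨U₀, t, hne, htU, htU₀, ht⟩ := h.tor U
  have hγt : γ t = t := hγ t htU
  have hU₀ : γ • U₀ = U₀ := by
    have h1 : t • (γ • U₀) = γ • U₀ := by
      conv_lhs => rw [← hγt]
      rw [← smul_smul_eq, Sylow.smul_eq_iff_mem_normalizer.2 htU₀]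
    rcases ht _ (Sylow.smul_eq_iff_mem_normalizer.1 h1) with h2 | h2
    · exfalso
      apply hne
      rw [← hU] at h2
      exact MulAction.injective γ h2
    · exact h2
  have hall : ∀ V : Sylow p K, γ • V = V := by
    intro V
    by_cases hV : V = U
    · rw [hV, hU]
    · obtain ⟨u, hu, rfl⟩ := h.trans U U₀ V hne hV
      rw [smul_smul_eq, hγ u (hUn u hu), hU₀]
  have hc : ∀ k : K, k⁻¹ * γ k ∈ center K := by
    intro k
    apply h.ker
    intro V
    rw [← Sylow.smul_eq_iff_mem_normalizer, mul_smul]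
    conv_lhs => rw [← hall V]
    rw [← smul_smul_eq, hall, inv_smul_smul]
  -- `γ` fixes the commutators
  let R : Subgroup K :=
    { carrier := {k | γ k = k}
      one_mem' := map_one γ
      mul_mem' := fun {a b} ha hb => by
        show γ (a * b) = a * b
        rw [map_mul]; exact congrArg₂ _ ha hb
      inv_mem' := fun {a} ha => by
        show γ a⁻¹ = a⁻¹
        rw [map_inv]; exact congrArg _ ha }
  have hR : (⊤ : Subgroup K) ≤ R := by
    rw [← h.perf, commutator_le]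
    intro a _ b _
    show γ ⁅a, b⁆ = ⁅a, b⁆
    obtain ⟨z, hz⟩ : ∃ z, z = a⁻¹ * γ a := ⟨_, rfl⟩
    obtain ⟨w, hw⟩ : ∃ w, w = b⁻¹ * γ b := ⟨_, rfl⟩
    have hzc : z ∈ center K := hz ▸ hc a
    have hwc : w ∈ center K := hw ▸ hc b
    have ha : γ a = a * z := by rw [hz]; group
    have hb : γ b = b * w := by rw [hw]; group
    rw [map_commutatorElement, ha, hb, commutatorElement_def, commutatorElement_def]
    have e1 := mem_center_iff.1 hzc
    have e2 := mem_center_iff.1 hwc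
    have e3 := mem_center_iff.1 (inv_mem hzc)
    have e4 := mem_center_iff.1 (inv_mem hwc)
    rw [_root_.mul_inv_rev, _root_.mul_inv_rev]
    calc a * z * (b * w) * (z⁻¹ * a⁻¹) * (w⁻¹ * b⁻¹) = a * (z * (b * w * z⁻¹)) * a⁻¹ * (w⁻¹ * b⁻¹) := by group
      _ = a * (b * w * z⁻¹ * z) * a⁻¹ * (w⁻¹ * b⁻¹) := by rw [← e1 (b * w * z⁻¹)]
      _ = a * b * (w * (a⁻¹ * w⁻¹)) * b⁻¹ := by group
      _ = a * b * (a⁻¹ * w⁻¹ * w) * b⁻¹ := by rw [← e2 (a⁻¹ * w⁻¹)]
      _ = a * b * a⁻¹ * b⁻¹ := by group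
  ext k
  exact hR (mem_top k)

end Rigid

section Map

variable {X K : Type*} [Group X] [Finite X] [Group K] {p : ℕ} [hpf : Fact p.Prime]

theorem map_le_imp {f : X →* K} (hker : f.ker ≤ center X) (hp : ¬ p ∣ Nat.card f.ker) {A B : Subgroup X}
    (hA : IsPGroup p A) (hB : IsPGroup p B) (h : A.map f ≤ B.map f) : A ≤ B := by
  intro x hx
  obtain ⟨y, hy, hyx⟩ := h (mem_map_of_mem f hx)
  have hz : y⁻¹ * x ∈ f.ker := by
    rw [MonoidHom.mem_ker, map_mul, map_inv, hyx, inv_mul_cancel]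
  have hzc := mem_center_iff.1 (hker hz)
  obtain ⟨m, hm⟩ := hA ⟨x, hx⟩
  obtain ⟨n, hn⟩ := hB ⟨y, hy⟩
  have hm' : x ^ p ^ m = 1 := congrArg Subtype.val hm
  have hn' : y ^ p ^ n = 1 := congrArg Subtype.val hn
  have hxk : x ^ p ^ (m + n) = 1 := by rw [pow_add, pow_mul, hm', one_pow]
  have hyk : y ^ p ^ (m + n) = 1 := by rw [pow_add, mul_comm, pow_mul, hn', one_pow]
  have hcomm : Commute y (y⁻¹ * x) := hzc y
  have hxe : x = y * (y⁻¹ * x) := by group
  have h1 : (y⁻¹ * x) ^ p ^ (m + n) = 1 := by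
    have h2 := hcomm.mul_pow (p ^ (m + n))
    rw [← hxe, hxk, hyk, one_mul] at h2
    exact h2.symm
  have h2 : y⁻¹ * x = 1 := by
    by_contra hne
    apply hp
    have h3 : orderOf (⟨y⁻¹ * x, hz⟩ : f.ker) ∣ p ^ (m + n) := by
      rw [orderOf_dvd_iff_pow_eq_one]; exact Subtype.ext h1
    obtain ⟨k, -, hk⟩ := (Nat.dvd_prime_pow hpf.out).1 h3
    have hk0 : k ≠ 0 := by
      rintro rfl
      rw [pow_zero, orderOf_eq_one_iff] at hk
      exact hne (congrArg Subtype.val hk)
    refine Dvd.dvd.trans ?_ (orderOf_dvd_natCard (⟨y⁻¹ * x, hz⟩ : f.ker))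
    rw [hk]; exact dvd_pow_self p hk0
  have h3 : x = y := by rw [inv_mul_eq_one] at h2; exact h2.symm
  rw [h3]; exact hy

/-- Quotients by central `p'`-subgroups. -/
theorem map (h : RankOneSyl p X) (f : X →* K) (hf : Function.Surjective f) (hker : f.ker ≤ center X)
    (hp : ¬ p ∣ Nat.card f.ker) : RankOneSyl p K := by
  have hinj : ∀ P Q : Sylow p X, P.mapSurjective hf = Q.mapSurjective hf → P = Q := by
    intro P Q hPQ
    have h1 : (P : Subgroup X).map f = (Q : Subgroup X).map f := congrArg (fun P : Sylow p K => (P : Subgroup K)) hPQ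
    exact Sylow.ext (le_antisymm (map_le_imp hker hp P.isPGroup' Q.isPGroup' h1.le)
      (map_le_imp hker hp Q.isPGroup' P.isPGroup' h1.ge))
  have hsmul : ∀ (x : X) (P : Sylow p X), (x • P).mapSurjective hf = f x • P.mapSurjective hf := by
    intro x P
    apply Sylow.ext
    rw [Sylow.coe_mapSurjective, Sylow.coe_subgroup_smul, Sylow.coe_subgroup_smul, Sylow.coe_mapSurjective]
    ext y
    constructor
    · rintro ⟨_, ⟨z, hz, rfl⟩, rfl⟩
      refine ⟨f z, ⟨z, hz, rfl⟩, ?_⟩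
      show f x * f z * (f x)⁻¹ = f (x * z * x⁻¹)
      rw [map_mul, map_mul, map_inv]
    · rintro ⟨_, ⟨z, hz, rfl⟩, rfl⟩
      refine ⟨x * z * x⁻¹, ⟨z, hz, rfl⟩, ?_⟩
      show f (x * z * x⁻¹) = f x * f z * (f x)⁻¹
      rw [map_mul, map_mul, map_inv]
  have hnorm : ∀ (x : X) (P : Sylow p X), f x ∈ normalizer (P.mapSurjective hf : Set K) ↔
      x ∈ normalizer (P : Set X) := by
    intro x P
    rw [← Sylow.smul_eq_iff_mem_normalizer, ← Sylow.smul_eq_iff_mem_normalizer, ← hsmul]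
    exact ⟨fun h => hinj _ _ h, fun h => by rw [h]⟩
  have hsurj := Sylow.mapSurjective_surjective hf p
  refine ⟨?_, ?_, ?_, ?_⟩
  · have h1 := congrArg (Subgroup.map f) h.perf
    rw [Subgroup.map_commutator, Subgroup.map_top_of_surjective f hf] at h1
    exact h1
  · intro k hk
    obtain ⟨x, rfl⟩ := hf k
    have h1 : x ∈ center X := h.ker x fun P => (hnorm x P).1 (hk _)
    rw [mem_center_iff] at h1 ⊢
    intro y
    obtain ⟨y, rfl⟩ := hf y
    rw [← map_mul, ← map_mul, h1]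
  · intro U
    obtain ⟨P, rfl⟩ := hsurj U
    obtain ⟨P₀, t, h1, h2, h3, h4⟩ := h.tor P
    refine ⟨P₀.mapSurjective hf, f t, fun h => h1 (hinj _ _ h), (hnorm _ _).2 h2, (hnorm _ _).2 h3, ?_⟩
    intro V hV
    obtain ⟨Q, rfl⟩ := hsurj V
    rcases h4 Q ((hnorm _ _).1 hV) with h | h
    · exact Or.inl (by rw [h])
    · exact Or.inr (by rw [h])
  · intro U V W hV hW
    obtain ⟨P, rfl⟩ := hsurj U
    obtain ⟨Q, rfl⟩ := hsurj V
    obtain ⟨R, rfl⟩ := hsurj W
    obtain ⟨u, hu, h1⟩ := h.trans P Q R (fun h => hV (by rw [h])) (fun h => hW (by rw [h]))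
    refine ⟨f u, mem_map_of_mem f hu, ?_⟩
    rw [← hsmul, h1]

theorem of_equiv (h : RankOneSyl p X) (e : X ≃* K) : RankOneSyl p K := by
  refine h.map e.toMonoidHom e.surjective ?_ ?_
  · rw [(MonoidHom.ker_eq_bot_iff e.toMonoidHom).2 e.injective]; exact bot_le
  · rw [(MonoidHom.ker_eq_bot_iff e.toMonoidHom).2 e.injective, Subgroup.card_bot]
    exact hpf.out.one_lt.ne' ∘ Nat.dvd_one.1

end Map

end RankOneSyl


/-- A group acting on a vector space of characteristic `p` like a group of Lie rank one: `I` is the set of vectors spanning the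
points. -/
structure VecData (p : ℕ) (F : Type*) {X V : Type*} [Field F] [Group X] [AddCommGroup V] [Module F V]
    (act : X → V → V) (I : Set V) : Prop where
  one : ∀ v, act 1 v = v
  mul : ∀ g h v, act (g * h) v = act g (act h v)
  smul : ∀ g (c : F) v, act g (c • v) = c • act g v
  char : ∀ (a : F) (k : ℕ), a ^ p ^ k = 1 → a = 1
  ne0 : ∀ u ∈ I, u ≠ 0
  nonempty : I.Nonempty
  actI : ∀ g, ∀ u ∈ I, act g u ∈ I
  pgrp : ∀ u ∈ I, ∀ g, act g u = u → ∃ k : ℕ, g ^ p ^ k = 1
  move : ∀ u ∈ I, ∀ v ∈ I, (∀ g, act g u = u → act g v = v) → ∃ c : F, v = c • u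
  trans : ∀ u ∈ I, ∀ v ∈ I, ∀ w ∈ I, (¬ ∃ c : F, v = c • u) → (¬ ∃ c : F, w = c • u) →
    ∃ g, act g u = u ∧ ∃ c : F, c ≠ 0 ∧ act g v = c • w
  tor : ∀ u ∈ I, ∃ v ∈ I, (¬ ∃ c : F, v = c • u) ∧ ∃ t, (∃ c : F, act t u = c • u) ∧ (∃ c : F, act t v = c • v) ∧
    ∀ w ∈ I, (∃ c : F, act t w = c • w) → (∃ c : F, w = c • u) ∨ (∃ c : F, w = c • v)
  ker : ∀ g, (∀ u ∈ I, ∃ c : F, act g u = c • u) → g ∈ center X
  faith : ∀ g, (∀ u ∈ I, act g u = u) → g = 1
  perf : ⁅(⊤ : Subgroup X), (⊤ : Subgroup X)⁆ = (⊤ : Subgroup X)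

namespace VecData

variable {p : ℕ} [hpf : Fact p.Prime] {F X V : Type*} [Field F] [Group X] [Finite X] [AddCommGroup V] [Module F V]
  {act : X → V → V} {I : Set V}

/-- The stabiliser of a vector. -/
def st (h : VecData p F act I) (u : V) : Subgroup X where
  carrier := {g | act g u = u}
  one_mem' := h.one u
  mul_mem' := fun {a b} ha hb => by
    show act (a * b) u = u
    rw [h.mul, show act b u = u from hb]; exact ha
  inv_mem' := fun {a} ha => by
    show act a⁻¹ u = u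
    have h1 : act a⁻¹ (act a u) = u := by rw [← h.mul, inv_mul_cancel, h.one]
    rwa [show act a u = u from ha] at h1

variable (h : VecData p F act I)
include h

theorem mem_st {u : V} {g : X} : g ∈ h.st u ↔ act g u = u := Iff.rfl

theorem inv_act (g : X) (u : V) : act g⁻¹ (act g u) = u := by
  rw [← h.mul, inv_mul_cancel, h.one]

theorem act_inv (g : X) (u : V) : act g (act g⁻¹ u) = u := by
  rw [← h.mul, mul_inv_cancel, h.one]

theorem mem_st_act {u : V} {g x : X} : x ∈ h.st (act g u) ↔ g⁻¹ * x * g ∈ h.st u := by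
  rw [mem_st, mem_st, h.mul, h.mul]
  constructor
  · intro h1
    rw [h1, h.inv_act]
  · intro h1
    have h2 := congrArg (act g) h1
    rwa [h.act_inv] at h2

theorem st_smul {u : V} {c : F} (hc : c ≠ 0) : h.st (c • u) = h.st u := by
  ext x
  rw [mem_st, mem_st, h.smul]
  exact ⟨fun h1 => smul_right_injective V hc h1, fun h1 => by rw [h1]⟩

theorem smul_eq_st (g : X) (u : V) : (MulAut.conj g) • h.st u = h.st (act g u) := by
  ext x
  rw [mem_st_act]
  constructor
  · rintro ⟨y, hy, rfl⟩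
    have h2 : g⁻¹ * (g * y * g⁻¹) * g = y := by group
    show g⁻¹ * (g * y * g⁻¹) * g ∈ h.st u
    rwa [h2]
  · intro hx
    refine ⟨_, hx, ?_⟩
    show g * (g⁻¹ * x * g) * g⁻¹ = x
    group

theorem st_eq_iff {u v : V} (hu : u ∈ I) (hv : v ∈ I) : h.st v = h.st u ↔ ∃ c : F, v = c • u := by
  constructor
  · intro h1
    exact h.move u hu v hv fun g hg => by
      have : g ∈ h.st v := by rw [h1]; exact hg
      exact this
  · rintro ⟨c, rfl⟩
    refine h.st_smul fun hc => ?_
    apply h.ne0 _ hv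
    rw [hc, zero_smul]

theorem mem_normalizer_st {u : V} (hu : u ∈ I) (g : X) :
    g ∈ normalizer (h.st u : Set X) ↔ ∃ c : F, act g u = c • u := by
  rw [← h.st_eq_iff hu (h.actI g u hu), ← h.smul_eq_st, mem_normalizer_iff_map_conj_eq]
  rfl

theorem st_isPGroup {u : V} (hu : u ∈ I) : IsPGroup p (h.st u) := by
  intro g
  obtain ⟨k, hk⟩ := h.pgrp u hu g g.2
  exact ⟨k, Subtype.ext hk⟩

theorem act_pow {g : X} {u : V} {c : F} (hc : act g u = c • u) (n : ℕ) : act (g ^ n) u = c ^ n • u := by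
  induction n with
  | zero => rw [pow_zero, pow_zero, h.one, one_smul]
  | succ n ih => rw [pow_succ, h.mul, hc, h.smul, ih, smul_smul, pow_succ, mul_comm]

/-- A `p`-element normalising the stabiliser of `u` is in it. -/
theorem mem_st_of_pow {u : V} (hu : u ∈ I) {g : X} {k : ℕ} (hg : g ^ p ^ k = 1)
    (hn : g ∈ normalizer (h.st u : Set X)) : g ∈ h.st u := by
  obtain ⟨c, hc⟩ := (h.mem_normalizer_st hu g).1 hn
  have h1 := h.act_pow hc (p ^ k)
  rw [hg, h.one] at h1
  have h2 : c ^ p ^ k = 1 := by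
    have h3 : (c ^ p ^ k - 1) • u = 0 := by rw [sub_smul, one_smul, ← h1, sub_self]
    rcases smul_eq_zero.1 h3 with h4 | h4
    · exact sub_eq_zero.1 h4
    · exact absurd h4 (h.ne0 u hu)
  rw [mem_st, hc, h.char c k h2, one_smul]

theorem exists_sylow {u : V} (hu : u ∈ I) : ∃ P : Sylow p X, (P : Subgroup X) = h.st u := by
  obtain ⟨P, hP⟩ := (h.st_isPGroup hu).exists_le_sylow
  refine ⟨P, Blocks.SylowIn.eq_of_normalizer_inf_le P.isPGroup' hP ?_⟩
  intro g hg
  obtain ⟨k, hk⟩ := P.isPGroup' ⟨g, hg.2⟩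
  exact h.mem_st_of_pow hu (congrArg Subtype.val hk) hg.1

theorem exists_vec (P : Sylow p X) : ∃ u ∈ I, (P : Subgroup X) = h.st u := by
  obtain ⟨u, hu⟩ := h.nonempty
  obtain ⟨Q, hQ⟩ := h.exists_sylow hu
  obtain ⟨g, rfl⟩ := MulAction.exists_smul_eq X Q P
  exact ⟨_, h.actI g u hu, by rw [Sylow.coe_subgroup_smul, hQ, h.smul_eq_st]⟩

theorem rankOneSyl : RankOneSyl p X := by
  refine ⟨h.perf, ?_, ?_, ?_⟩
  · intro k hk
    apply h.ker
    intro u hu
    obtain ⟨P, hP⟩ := h.exists_sylow hu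
    have h1 := hk P
    rw [← h.mem_normalizer_st hu, ← hP]
    exact h1
  · intro U
    obtain ⟨u, hu, hU⟩ := h.exists_vec U
    obtain ⟨v, hv, hvu, t, htu, htv, ht⟩ := h.tor u hu
    obtain ⟨U₀, hU₀⟩ := h.exists_sylow hv
    have hn : ∀ (P : Sylow p X) (w : V), w ∈ I → (P : Subgroup X) = h.st w → ∀ g : X,
        g ∈ normalizer (P : Set X) ↔ ∃ c : F, act g w = c • w := by
      intro P w hw hP g
      rw [← h.mem_normalizer_st hw, ← hP]
      rfl
    refine ⟨U₀, t, ?_, (hn U u hu hU t).2 htu, (hn U₀ v hv hU₀ t).2 htv, ?_⟩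
    · intro h1
      apply hvu
      rw [← h.st_eq_iff hu hv, ← hU₀, ← hU, h1]
    · intro W hW
      obtain ⟨w, hw, hWw⟩ := h.exists_vec W
      rcases ht w hw ((hn W w hw hWw t).1 hW) with h1 | h1
      · left
        apply Sylow.ext
        rw [hWw, hU, h.st_eq_iff hu hw]; exact h1
      · right
        apply Sylow.ext
        rw [hWw, hU₀, h.st_eq_iff hv hw]; exact h1
  · intro U V W hV hW
    obtain ⟨u, hu, hU⟩ := h.exists_vec U
    obtain ⟨v, hv, hVv⟩ := h.exists_vec V
    obtain ⟨w, hw, hWw⟩ := h.exists_vec W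
    obtain ⟨g, hg, c, hc, hgc⟩ := h.trans u hu v hv w hw
      (fun h1 => hV (Sylow.ext (by rw [hVv, hU, h.st_eq_iff hu hv]; exact h1)))
      (fun h1 => hW (Sylow.ext (by rw [hWw, hU, h.st_eq_iff hu hw]; exact h1)))
    refine ⟨g, by rw [hU]; exact hg, ?_⟩
    apply Sylow.ext
    rw [Sylow.coe_subgroup_smul, hVv, h.smul_eq_st, hWw, hgc, h.st_smul hc]

/-- The centre is a `p'`-group. -/
theorem not_dvd_center : ¬ p ∣ Nat.card (center X) := by
  intro hd
  obtain ⟨z, hz⟩ := exists_prime_orderOf_dvd_card' p hd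
  have h1 : (z : X) ^ p ^ 1 = 1 := by
    have h2 : z ^ p = 1 := by rw [← hz]; exact pow_orderOf_eq_one z
    rw [pow_one]; exact congrArg Subtype.val h2
  have h2 : (z : X) = 1 := by
    apply h.faith
    intro u hu
    refine h.mem_st_of_pow hu h1 ?_
    exact (center_le_normalizer (h.st u : Set X)) z.2
  have h3 : z = 1 := Subtype.ext h2
  rw [h3, orderOf_one] at hz
  exact hpf.out.one_lt.ne hz

/-- The quotient by the centre. -/
theorem rankOneSyl_quot : RankOneSyl p (X ⧸ center X) := by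
  refine h.rankOneSyl.map (QuotientGroup.mk' (center X)) (QuotientGroup.mk'_surjective _) ?_ ?_
  · rw [QuotientGroup.ker_mk']
  · rw [QuotientGroup.ker_mk']; exact h.not_dvd_center

end VecData

end Cfsg.Agent.H273
end

-- part: H273/VecSU3
section
/-!
# `SU₃(q)` as a group of Lie rank one

`VecData p F act I` for `SU 3 F (p ^ a)` acting on the isotropic vectors, `p ≥ 5`.
-/

set_option autoImplicit false
set_option linter.unusedSectionVars false

namespace Cfsg.Agent.H273.VecSU3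

open Cfsg Cfsg.Agent.LieClassical.HermBasic Cfsg.Agent.LieClassical.HermSiegel
  Cfsg.Agent.LieClassical.HermGen Cfsg.Agent.LieClassical.HermSimple Matrix

variable {F : Type*} [Field F] [Fintype F] {q : ℕ}

theorem minors {x0 x1 x2 y0 y1 y2 X0 X1 X2 Y0 Y1 Y2 : F} (a : x0 * X0 + x1 * X1 + x2 * X2 = 0)
    (b : x0 * Y0 + x1 * Y1 + x2 * Y2 = 0) (c : y0 * X0 + y1 * X1 + y2 * X2 = 0)
    (d : y0 * Y0 + y1 * Y1 + y2 * Y2 = 0) :
    (x0 * y1 - x1 * y0) ^ 2 * (X0 * Y1 - X1 * Y0) = 0 := by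
  have h1 : (x0 * y1 - x1 * y0) * X0 = (x1 * y2 - x2 * y1) * X2 := by linear_combination y1 * a - x1 * c
  have h2 : (x0 * y1 - x1 * y0) * X1 = (x2 * y0 - x0 * y2) * X2 := by linear_combination x0 * c - y0 * a
  have h3 : (x0 * y1 - x1 * y0) * Y0 = (x1 * y2 - x2 * y1) * Y2 := by linear_combination y1 * b - x1 * d
  have h4 : (x0 * y1 - x1 * y0) * Y1 = (x2 * y0 - x0 * y2) * Y2 := by linear_combination x0 * d - y0 * b
  linear_combination ((x0 * y1 - x1 * y0) * Y1) * h1 + (x1 * y2 - x2 * y1) * X2 * h4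
    - ((x0 * y1 - x1 * y0) * Y0) * h2 - (x2 * y0 - x0 * y2) * X2 * h3

/-- orthogonal isotropic vectors are proportional (proof of helper234, `EH3.Rank1.UThree.parallel`) -/
theorem parallel (hF : Fintype.card F = q ^ 2) {u v : Fin 3 → F} (hu : hermForm 3 F q u u = 0)
    (hv : hermForm 3 F q v v = 0) (huv : hermForm 3 F q u v = 0) (h0 : u ≠ 0) : ∃ c : F, v = c • u := by
  have hvu : hermForm 3 F q v u = 0 := herm_eq_zero_swap hF huv
  rw [herm_def, Fin.sum_univ_three] at hu hv huv hvu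
  have key : ∀ {x y : F} (X Y : F) , (x * Y - y * X) ^ 2 * (x ^ q * Y ^ q - y ^ q * X ^ q) = 0 → x * Y - y * X = 0 := by
    intro x y X Y h
    rcases mul_eq_zero.1 h with h1 | h1
    · exact pow_eq_zero_iff (two_ne_zero) |>.1 h1
    · rw [← mul_pow, ← mul_pow, ← sub_pow_q hF] at h1
      exact (pow_q_eq_zero hF).1 h1
  have m01 : u 0 * v 1 - u 1 * v 0 = 0 := key _ _ (minors hu huv hvu hv)
  have m12 : u 1 * v 2 - u 2 * v 1 = 0 := key _ _ (minors (x2 := u 0) (y2 := v 0) (X2 := u 0 ^ q) (Y2 := v 0 ^ q)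
    (by linear_combination hu) (by linear_combination huv) (by linear_combination hvu) (by linear_combination hv))
  have m20 : u 2 * v 0 - u 0 * v 2 = 0 := key _ _ (minors (x2 := u 1) (y2 := v 1) (X2 := u 1 ^ q) (Y2 := v 1 ^ q)
    (by linear_combination hu) (by linear_combination huv) (by linear_combination hvu) (by linear_combination hv))
  obtain ⟨i, hi⟩ : ∃ i, u i ≠ 0 := by
    by_contra hcon
    push Not at hcon
    exact h0 (funext hcon)
  have hmin : ∀ i j, u i * v j = u j * v i := by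
    intro i j
    fin_cases i <;> fin_cases j
    · rfl
    · show u 0 * v 1 = u 1 * v 0
      linear_combination m01
    · show u 0 * v 2 = u 2 * v 0
      linear_combination -m20
    · show u 1 * v 0 = u 0 * v 1
      linear_combination -m01
    · rfl
    · show u 1 * v 2 = u 2 * v 1
      linear_combination m12
    · show u 2 * v 0 = u 0 * v 2
      linear_combination m20
    · show u 2 * v 1 = u 1 * v 2
      linear_combination -m12
    · rfl
  refine ⟨v i / u i, ?_⟩
  ext j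
  rw [Pi.smul_apply, smul_eq_mul, div_mul_eq_mul_div, eq_div_iff hi]
  linear_combination hmin i j

/-- An element of `SU₃` fixing a hyperbolic pair is trivial. -/
theorem eq_one_of_fix_pair (hF : Fintype.card F = q ^ 2) {u u' : Fin 3 → F} (hu : hermForm 3 F q u u = 0)
    (hu' : hermForm 3 F q u' u' = 0) (huu' : hermForm 3 F q u u' = 1) {g : SU 3 F q} (hg : act g u = u)
    (hg' : act g u' = u') : g = 1 := by
  obtain ⟨v, v', a, b, ha, hv, hv', hvv, hv'v', hvv'⟩ := exists_hyp_pair (q := q) (n := 3) hF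
    (show (0 : Fin 3) ≠ 1 by decide)
  obtain ⟨x, -, hx, hx'⟩ := exists_map_hyp hF le_rfl le_rfl (mem_coordSub_top u) (mem_coordSub_top u')
    (mem_coordSub_top v) (mem_coordSub_top v') hu hu' huu' hvv hv'v' hvv'
  have h1 : act (x * g * x⁻¹) v = v := by
    rw [act_mul, act_mul, ← hx, act_inv_act, hg]
  have h2 : act (x * g * x⁻¹) v' = v' := by
    rw [act_mul, act_mul, ← hx', act_inv_act, hg']
  have h3 : act (x * g * x⁻¹) (Pi.single 0 1) = Pi.single 0 1 := by
    have h4 : (Pi.single 0 1 : Fin 3 → F) = v' - b • v := by rw [hv', add_sub_cancel_right]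
    rw [h4, act_sub, act_smul, h1, h2]
  have h5 : act (x * g * x⁻¹) (Pi.single 1 1) = Pi.single 1 1 := by
    have h4 : (Pi.single 1 1 : Fin 3 → F) = a⁻¹ • (v - Pi.single 0 1) := by
      rw [hv, add_sub_cancel_left, smul_smul, inv_mul_cancel₀ ha, one_smul]
    rw [h4, act_smul, act_sub, h1, h3]
  have h6 : x * g * x⁻¹ = 1 := by
    refine eq_one_of_fix hF 2 ?_
    intro j hj
    fin_cases j
    · exact h3
    · exact h5
    · exact absurd rfl hj
  have h7 : g = x⁻¹ * (x * g * x⁻¹) * x := by group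
  rw [h7, h6]; group

/-- The stabiliser of an isotropic vector consists of Siegel transformations. -/
theorem exists_siegel (hF : Fintype.card F = q ^ 2) {u : Fin 3 → F} (hu0 : u ≠ 0) (hu : hermForm 3 F q u u = 0)
    {g : SU 3 F q} (hg : act g u = u) : ∃ (w : Fin 3 → F) (μ : F) (h : IsSiegel q u w μ), g = siegel hF u w μ h := by
  obtain ⟨u', hu', huu'⟩ := exists_partner hF hu0 hu
  have hsw : hermForm 3 F q u' u = 1 := by rw [herm_swap hF u u', huu', one_pow]
  have h1 : hermForm 3 F q (act g u') u = 1 := by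
    conv_lhs => rw [← hg]
    rw [herm_act, hsw]
  obtain ⟨c, μ, h, hs⟩ := exists_siegel_map hF (u := u) (v := u') (v' := act g u') hu
    (by rw [herm_act]) (by rw [h1, hsw]) (by rw [hsw]; exact one_ne_zero)
  refine ⟨_, μ, h, ?_⟩
  set s := siegel hF u (c • (act g u' - u')) μ h with hsdef
  have h2 : s⁻¹ * g = 1 := by
    refine eq_one_of_fix_pair hF hu hu' huu' ?_ ?_
    · rw [act_mul, hg]
      conv_lhs => rw [← act_siegel_self hF h]
      exact act_inv_act _ _
    · rw [act_mul, ← hs, act_inv_act]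
  rw [inv_mul_eq_one] at h2
  exact h2.symm

theorem siegel_cube (hF : Fintype.card F = q ^ 2) {u w : Fin 3 → F} {μ : F} (h : IsSiegel q u w μ) :
    (mat (siegel hF u w μ h) - 1) ^ 3 = 0 := by
  set M := mat (siegel hF u w μ h) - 1 with hM
  have hx : ∀ x, M *ᵥ x = hermForm 3 F q x u • w + (μ * hermForm 3 F q x u - hermForm 3 F q x w) • u := by
    intro x
    have h1 : act (siegel hF u w μ h) x = mat (siegel hF u w μ h) *ᵥ x := rfl
    rw [hM, sub_mulVec, one_mulVec, ← h1, act_siegel]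
    abel
  have hu : M *ᵥ u = 0 := by
    rw [hx, h.iso, h.orth' hF]; simp
  have h2 : ∀ x, hermForm 3 F q (M *ᵥ x) u = 0 := by
    intro x
    rw [hx, herm_add_left, herm_smul_left, herm_smul_left, h.iso, h.orth]; simp
  have h3 : ∀ x, ∃ c : F, M *ᵥ (M *ᵥ x) = c • u := by
    intro x
    rw [hx (M *ᵥ x), h2]
    exact ⟨_, by rw [zero_smul, zero_add]⟩
  apply Matrix.ext_of_mulVec_single
  intro i
  obtain ⟨c, hc⟩ := h3 (Pi.single i 1)
  rw [pow_succ', pow_two, ← mulVec_mulVec, ← mulVec_mulVec, hc, mulVec_smul, hu, smul_zero, zero_mulVec]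

/-- Unipotent matrices have order `p`. -/
theorem pow_eq_one {p : ℕ} [Fact p.Prime] [CharP F p] (hp : 3 ≤ p) {M : Matrix (Fin 3) (Fin 3) F} (hM : (M - 1) ^ 3 = 0) :
    M ^ p = 1 := by
  have h1 : (M - 1) ^ p = M ^ p - 1 := by
    rw [sub_pow_char_of_commute p (Commute.one_right M), one_pow]
  have h2 : (M - 1) ^ p = 0 := pow_eq_zero_of_le hp hM
  rw [h2] at h1
  exact (sub_eq_zero.1 h1.symm)

theorem mat_pow (g : SU 3 F q) (n : ℕ) : mat (g ^ n) = mat g ^ n := by
  induction n with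
  | zero => rw [pow_zero, pow_zero]; rfl
  | succ n ih => rw [pow_succ, mat_mul, ih, pow_succ]

theorem vecData {p a : ℕ} [hpf : Fact p.Prime] (hp : 5 ≤ p) (hF : Fintype.card F = p ^ (2 * a)) :
    VecData p F (fun (g : SU 3 F (p ^ a)) (v : Fin 3 → F) => act g v) {u | u ≠ 0 ∧ hermForm 3 F (p ^ a) u u = 0} := by
  have : CharP F p := charP_of_card_eq_prime_pow hF
  have hF2 : Fintype.card F = (p ^ a) ^ 2 := by rw [hF, ← pow_mul, mul_comm]
  have hq2 := two_le hF2
  have hprop : ∀ u v : Fin 3 → F, u ≠ 0 → hermForm 3 F (p ^ a) u u = 0 → hermForm 3 F (p ^ a) v v = 0 →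
      (¬ ∃ c : F, v = c • u) → hermForm 3 F (p ^ a) v u ≠ 0 := by
    intro u v hu0 hu hv hne h
    exact hne (parallel hF2 hu hv (herm_eq_zero_swap hF2 h) hu0)
  refine ⟨act_one, act_mul, act_smul, ?_, fun u hu => hu.1, ?_, ?_, ?_, ?_, ?_, ?_, ?_, ?_, ?_⟩
  · intro x k hk
    have h1 : (x - 1) ^ p ^ k = 0 := by rw [sub_pow_char_pow, hk, one_pow, sub_self]
    exact sub_eq_zero.1 (pow_eq_zero_iff (pow_ne_zero k hpf.out.ne_zero) |>.1 h1)
  · obtain ⟨v, v', a', b, ha, hv, hv', hvv, hv'v', hvv'⟩ := exists_hyp_pair (q := p ^ a) (n := 3) hF2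
      (show (0 : Fin 3) ≠ 1 by decide)
    refine ⟨v, ?_, hvv⟩
    rintro rfl
    rw [herm_zero_left] at hvv'
    exact zero_ne_one hvv'
  · rintro g u ⟨hu0, hu⟩
    exact ⟨fun h => hu0 ((act_eq_zero g).1 h), by rw [herm_act]; exact hu⟩
  · rintro u ⟨hu0, hu⟩ g hg
    obtain ⟨w, μ, h, rfl⟩ := exists_siegel hF2 hu0 hu hg
    refine ⟨1, ?_⟩
    apply mat_injective
    rw [pow_one, mat_pow, mat_one]
    exact pow_eq_one (by omega) (siegel_cube hF2 h)
  · rintro u ⟨hu0, hu⟩ v ⟨hv0, hv⟩ h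
    by_contra hne
    have h1 := hprop u v hu0 hu hv hne
    obtain ⟨μ, hμ0, hμ⟩ := exists_trace_zero_ne hF2
    have hs : IsSiegel (p ^ a) u 0 μ := ⟨hu, herm_zero_left u, by rw [herm_zero_left, add_zero, hμ]⟩
    have h2 := h (siegel hF2 u 0 μ hs) (act_siegel_self hF2 hs)
    have h3 : act (siegel hF2 u 0 μ hs) v = v + (μ * hermForm 3 F (p ^ a) v u) • u := by
      rw [act_siegel, smul_zero, add_zero, herm_zero_right hF2, sub_zero]
    have h2' : act (siegel hF2 u 0 μ hs) v = v := h2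
    rw [h3, add_eq_left, smul_eq_zero] at h2'
    rcases h2' with h4 | h4
    · exact mul_ne_zero hμ0 h1 h4
    · exact hu0 h4
  · rintro u ⟨hu0, hu⟩ v ⟨hv0, hv⟩ w ⟨hw0, hw⟩ hvu hwu
    have h1 := hprop u v hu0 hu hv hvu
    have h2 := hprop u w hu0 hu hw hwu
    set c := hermForm 3 F (p ^ a) v u / hermForm 3 F (p ^ a) w u with hc
    have hc0 : c ≠ 0 := div_ne_zero h1 h2
    obtain ⟨d, μ, h, hs⟩ := exists_siegel_map hF2 (u := u) (v := v) (v' := c • w) hu
      (by rw [hv, herm_smul_left, herm_smul_right, hw]; ring)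
      (by rw [herm_smul_left, hc, div_mul_cancel₀ _ h2]) h1
    exact ⟨_, act_siegel_self hF2 h, c, hc0, hs⟩
  · rintro u ⟨hu0, hu⟩
    obtain ⟨u', hu', huu'⟩ := exists_partner hF2 hu0 hu
    have hu'0 : u' ≠ 0 := by
      rintro rfl
      rw [herm_zero_right hF2] at huu'
      exact zero_ne_one huu'
    have h2 : (2 : F) ≠ 0 := by
      intro h
      have h3 : ((2 : ℕ) : F) = 0 := by exact_mod_cast h
      rw [CharP.cast_eq_zero_iff F p] at h3
      exact absurd (Nat.le_of_dvd (by norm_num) h3) (by omega)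
    have h2q : (2 : F) ^ p ^ a = 2 := by
      have h3 := add_pow_q hF2 (1 : F) 1
      rw [one_pow] at h3
      rw [show (2 : F) = 1 + 1 by norm_num]; exact h3
    obtain ⟨l, hl0, hl⟩ := exists_norm_eq_ne hF2 h2q h2
    have hl1 : l * l ^ p ^ a ≠ 1 := by
      rw [hl]
      intro h
      have h3 : (1 : F) = 0 := by linear_combination h
      exact one_ne_zero h3
    have hpair : hermForm 3 F (p ^ a) (l • u) ((l⁻¹) ^ p ^ a • u') = 1 := by
      rw [herm_smul_left, herm_smul_right, huu', pow_q_pow_q hF2, mul_one, mul_inv_cancel₀ hl0]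
    obtain ⟨t, -, ht, ht'⟩ := exists_map_hyp hF2 le_rfl le_rfl (mem_coordSub_top u) (mem_coordSub_top u')
      (mem_coordSub_top (l • u)) (mem_coordSub_top ((l⁻¹) ^ p ^ a • u')) hu hu' huu'
      (by rw [herm_smul_left, herm_smul_right, hu]; ring) (by rw [herm_smul_left, herm_smul_right, hu']; ring) hpair
    refine ⟨u', ⟨hu'0, hu'⟩, ?_, t, ⟨l, ht⟩, ⟨_, ht'⟩, ?_⟩
    · rintro ⟨c, rfl⟩
      rw [herm_smul_right, hu, mul_zero] at huu'
      exact zero_ne_one huu'
    · rintro w ⟨hw0, hw⟩ ⟨ν, hν⟩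
      have hν' : act t w = ν • w := hν
      have e1 : ν * l ^ p ^ a * hermForm 3 F (p ^ a) w u = hermForm 3 F (p ^ a) w u := by
        have h3 := herm_act t w u
        rw [hν', ht, herm_smul_left, herm_smul_right] at h3
        rw [← h3]; rw [h3]; rw [← mul_assoc] at h3; exact h3
      have e2 : ν * l⁻¹ * hermForm 3 F (p ^ a) w u' = hermForm 3 F (p ^ a) w u' := by
        have h3 := herm_act t w u'
        rw [hν', ht', herm_smul_left, herm_smul_right, pow_q_pow_q hF2, ← mul_assoc] at h3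
        exact h3
      by_cases h3 : hermForm 3 F (p ^ a) w u = 0
      · exact Or.inl (parallel hF2 hu hw (herm_eq_zero_swap hF2 h3) hu0)
      by_cases h4 : hermForm 3 F (p ^ a) w u' = 0
      · exact Or.inr (parallel hF2 hu' hw (herm_eq_zero_swap hF2 h4) hu'0)
      exfalso
      have e3 : ν * l ^ p ^ a = 1 := mul_right_cancel₀ h3 (by rw [e1, one_mul])
      have e4 : ν * l⁻¹ = 1 := mul_right_cancel₀ h4 (by rw [e2, one_mul])
      apply hl1
      rw [mul_inv_eq_one₀ hl0] at e4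
      rw [← e4]; rw [← e4] at e3; exact e3
  · intro g hg
    obtain ⟨d, hd⟩ := scalar_of_fix_iso hF2 le_rfl (g := g) (fun u hu => by
      by_cases hu0 : u = 0
      · exact ⟨0, by rw [hu0, act_zero, smul_zero]⟩
      · exact hg u ⟨hu0, hu⟩)
    exact mem_center_of_scalar hd
  · intro g hg
    obtain ⟨d, hd⟩ := scalar_of_fix_iso hF2 le_rfl (g := g) (fun u hu => by
      by_cases hu0 : u = 0
      · exact ⟨0, by rw [hu0, act_zero, smul_zero]⟩
      · exact ⟨1, by rw [one_smul]; exact hg u ⟨hu0, hu⟩⟩)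
    obtain ⟨v, v', a', b, ha, hv, hv', hvv, hv'v', hvv'⟩ := exists_hyp_pair (q := p ^ a) (n := 3) hF2
      (show (0 : Fin 3) ≠ 1 by decide)
    have hv0 : v ≠ 0 := by
      rintro rfl
      rw [herm_zero_left] at hvv'
      exact zero_ne_one hvv'
    have h1 : act g v = v := hg v ⟨hv0, hvv⟩
    have h2 : d = 1 := by
      have h3 : (d - 1) • v = 0 := by rw [sub_smul, one_smul, ← hd, h1, sub_self]
      exact sub_eq_zero.1 ((smul_eq_zero.1 h3).resolve_right hv0)
    apply ext_act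
    intro x
    rw [hd, h2, one_smul, act_one]
  · rw [← commutator_def]
    refine LieClassical.HermPerfect.commutator_SU_eq_top hF2 le_rfl ?_
    rintro ⟨-, h⟩
    have h3 : p ∣ 2 := by
      rw [← h]
      refine dvd_pow_self p ?_
      rintro rfl
      simp at h
    exact absurd (Nat.le_of_dvd (by norm_num) h3) (by omega)

end Cfsg.Agent.H273.VecSU3
end
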