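import Cfsg.Prelude.Def_Solvable
import Cfsg.Prelude.Def_Local
import Cfsg.Prelude.Def_Transfer
import Cfsg.Prelude.Def_SubgroupEmbedding
import Cfsg.Agent.Lib.Cores
import Cfsg.Agent.Lib.MinNormal
import Cfsg.Agent.Lib.MinNormalNonabelian
import Cfsg.Agent.Lib.GenFitting
import Cfsg.Agent.Lib.SylowNormalInf
set_option linter.all false

/-!
# Sidki pairs: reduction of a minimal counterexample to the almost simple case (S3048)
-/

set_option autoImplicit false
set_option linter.unusedSectionVars false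
set_option linter.style.haveILetI false
universe u

open Subgroup
open scoped commutatorElement

namespace Cfsg.Agent.H273.Sidki

/-! ### Elements of odd order inverted by an involution lift modulo a normal subgroup -/

/-- An element of odd order of `G ⧸ N` inverted by the image of `v` (`v² = 1`) lifts to an element of odd order
inverted by `v`. -/
theorem exists_lift {G : Type*} [Group G] [Finite G] (N : Subgroup G) [N.Normal] {v : G} (hv : v * v = 1)
    (x : G ⧸ N) (hx : Odd (orderOf x)) (hinv : (v : G ⧸ N) * x * (v : G ⧸ N)⁻¹ = x⁻¹) :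
    ∃ h : G, (h : G ⧸ N) = x ∧ Odd (orderOf h) ∧ v * h * v⁻¹ = h⁻¹ := by
  have hvinv : v⁻¹ = v := by
    rw [inv_eq_iff_mul_eq_one]; exact hv
  -- square root of `x`
  obtain ⟨m, hm⟩ : ∃ m : ℕ, (x ^ 2) ^ m = x :=
    exists_pow_eq_self_of_coprime ((Nat.coprime_two_left).2 hx)
  obtain ⟨k, hk⟩ := QuotientGroup.mk_surjective (x ^ m)
  set y : G := v * (k⁻¹ * v * k) with hy
  have hyx : (y : G ⧸ N) = x := by
    have h1 : (v : G ⧸ N) * (x ^ m)⁻¹ * (v : G ⧸ N)⁻¹ = x ^ m := by
      have h2 : (v : G ⧸ N) * (x ^ m)⁻¹ * (v : G ⧸ N)⁻¹ = ((v : G ⧸ N) * x * (v : G ⧸ N)⁻¹)⁻¹ ^ m := by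
        rw [← inv_pow, ← conj_pow]
        congr 1
        group
      rw [h2, hinv, inv_inv]
    have h3 : (y : G ⧸ N) = (v : G ⧸ N) * (x ^ m)⁻¹ * (v : G ⧸ N)⁻¹ * x ^ m := by
      rw [hy]
      have hvv : (v : G ⧸ N)⁻¹ = (v : G ⧸ N) := by
        rw [← QuotientGroup.mk_inv, hvinv]
      rw [hvv, ← hk]
      simp only [QuotientGroup.mk_mul, QuotientGroup.mk_inv]
      group
    rw [h3, h1, ← pow_add, ← two_mul, pow_mul, hm]
  have hyinv : v * y * v⁻¹ = y⁻¹ := by
    rw [hy]
    simp only [hvinv, mul_inv_rev, inv_inv]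
    calc v * (v * (k⁻¹ * v * k)) * v = (v * v) * (k⁻¹ * v * k) * v := by group
      _ = k⁻¹ * v * k * v := by rw [hv, one_mul]
      _ = k⁻¹ * (v * k) * v := by group
  obtain ⟨a, b, hb, hab⟩ := Nat.exists_eq_two_pow_mul_odd (orderOf_pos y).ne'
  have hcop : (2 ^ a).Coprime (orderOf x) := Nat.Coprime.pow_left _ ((Nat.coprime_two_left).2 hx)
  obtain ⟨t, ht⟩ := exists_pow_eq_self_of_coprime hcop
  refine ⟨(y ^ 2 ^ a) ^ t, ?_, ?_, ?_⟩
  · rw [QuotientGroup.mk_pow, QuotientGroup.mk_pow, hyx, ht]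
  · have h1 : orderOf ((y ^ 2 ^ a) ^ t) ∣ b := by
      apply orderOf_dvd_of_pow_eq_one
      rw [← pow_mul, mul_comm t b, pow_mul, ← pow_mul y, ← hab, pow_orderOf_eq_one, one_pow]
    exact Odd.of_dvd_nat hb h1
  · rw [← pow_mul, ← conj_pow, hyinv, inv_pow]

/-- The Sidki pair condition passes to a quotient by a normal subgroup meeting `V` trivially. -/
theorem sidki_quotient {G : Type*} [Group G] [Finite G] {V : Subgroup G} (hV : Cfsg.IsElementaryAbelian 2 V)
    (hS : Cfsg.IsSidkiPair V) (N : Subgroup G) [N.Normal] (hN : V ⊓ N = ⊥) :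
    Cfsg.IsSidkiPair (V.map (QuotientGroup.mk' N)) := by
  rintro x _ ⟨v, hv, rfl⟩ hx hinv
  have hvv : v * v = 1 := by have := hV.2 v hv; rwa [pow_two] at this
  obtain ⟨h, rfl, hh, hvh⟩ := exists_lift N hvv x hx hinv
  obtain ⟨w, hw, hw1, hwh⟩ := hS h v hv hh hvh
  refine ⟨QuotientGroup.mk' N w, ⟨w, hw, rfl⟩, ?_, ?_⟩
  · intro h1
    have h2 : w ∈ N := (QuotientGroup.eq_one_iff w).1 h1
    exact hw1 (Subgroup.mem_bot.1 (hN ▸ Subgroup.mem_inf.2 ⟨hw, h2⟩))
  · have := congrArg (QuotientGroup.mk' N) hwh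
    simpa using this

/-- The Sidki pair condition passes to subgroups containing `V`. -/
theorem sidki_subgroupOf {G : Type*} [Group G] {V K : Subgroup G} (hS : Cfsg.IsSidkiPair V) (hVK : V ≤ K) :
    Cfsg.IsSidkiPair (V.subgroupOf K) := by
  intro h v hv hh hvh
  obtain ⟨w, hw, hw1, hwh⟩ := hS (h : G) (v : G) hv (by rwa [Subgroup.orderOf_coe]) (by
    have := congrArg (Subtype.val) hvh
    simpa using this)
  refine ⟨⟨w, hVK hw⟩, hw, ?_, ?_⟩
  · intro h1; exact hw1 (congrArg Subtype.val h1)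
  · exact Subtype.ext hwh

theorem elemAb_subgroupOf {G : Type*} [Group G] {V K : Subgroup G} (hV : Cfsg.IsElementaryAbelian 2 V) :
    Cfsg.IsElementaryAbelian 2 (V.subgroupOf K) := by
  refine ⟨⟨⟨fun a b => ?_⟩⟩, fun a ha => ?_⟩
  · have := hV.1.is_comm.comm (⟨(a : K), a.2⟩ : V) (⟨(b : K), b.2⟩ : V)
    have h2 := congrArg Subtype.val this
    exact Subtype.ext (Subtype.ext h2)
  · exact Subtype.ext (hV.2 (a : G) ha)

theorem elemAb_map {G H : Type*} [Group G] [Group H] {V : Subgroup G} (hV : Cfsg.IsElementaryAbelian 2 V)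
    (f : G →* H) : Cfsg.IsElementaryAbelian 2 (V.map f) := by
  refine ⟨⟨⟨fun a b => ?_⟩⟩, ?_⟩
  · obtain ⟨_, a, ha, rfl⟩ := a
    obtain ⟨_, b, hb, rfl⟩ := b
    have := hV.1.is_comm.comm (⟨a, ha⟩ : V) (⟨b, hb⟩ : V)
    have h2 : a * b = b * a := congrArg Subtype.val this
    apply Subtype.ext
    simp only [Subgroup.coe_mul, ← map_mul, h2]
  · rintro _ ⟨a, ha, rfl⟩
    rw [← map_pow, hV.2 a ha, map_one]

theorem elemAb_mono {G : Type*} [Group G] {V W : Subgroup G} (hV : Cfsg.IsElementaryAbelian 2 V) (h : W ≤ V) :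
    Cfsg.IsElementaryAbelian 2 W := by
  refine ⟨⟨⟨fun a b => ?_⟩⟩, fun a ha => hV.2 a (h ha)⟩
  have := hV.1.is_comm.comm (⟨(a : G), h a.2⟩ : V) (⟨(b : G), h b.2⟩ : V)
  have h2 : (a : G) * (b : G) = (b : G) * (a : G) := congrArg Subtype.val this
  exact Subtype.ext h2

theorem elemAb_comm {G : Type*} [Group G] {V : Subgroup G} (hV : Cfsg.IsElementaryAbelian 2 V) {a b : G}
    (ha : a ∈ V) (hb : b ∈ V) : a * b = b * a :=
  congrArg Subtype.val (hV.1.is_comm.comm (⟨a, ha⟩ : V) (⟨b, hb⟩ : V))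

theorem elemAb_isPGroup {G : Type*} [Group G] {V : Subgroup G} (hV : Cfsg.IsElementaryAbelian 2 V) :
    IsPGroup 2 V := fun a => ⟨1, Subtype.ext (by simpa using hV.2 a a.2)⟩

/-! ### The standing hypothesis -/

/-- Every smaller group satisfies the Sidki pair statement. -/
def Min (n : ℕ) : Prop :=
  ∀ (H : Type u) [Group H] [Finite H] (W : Subgroup H), Nat.card H < n →
    Cfsg.IsElementaryAbelian 2 W → W ≠ ⊥ → Cfsg.IsSidkiPair W → W ⊓ Cfsg.pCore 2 H ≠ ⊥

variable {G : Type u} [Group G] [Finite G]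

theorem inf_core_ne_bot (hmin : Min.{u} (Nat.card G)) {V K : Subgroup G} (hV : Cfsg.IsElementaryAbelian 2 V)
    (hV1 : V ≠ ⊥) (hS : Cfsg.IsSidkiPair (V.subgroupOf K)) (hVK : V ≤ K) (hK : K ≠ ⊤) :
    ∃ v ∈ V, v ≠ 1 ∧ v ∈ (Cfsg.pCore 2 K).map K.subtype := by
  have hcard : Nat.card K < Nat.card G := by
    refine lt_of_le_of_ne (Subgroup.card_le_card_group K) fun h => hK (Subgroup.eq_top_of_card_eq _ h)
  have h1 : V.subgroupOf K ≠ ⊥ := by
    intro h
    apply hV1
    rw [Subgroup.subgroupOf_eq_bot] at h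
    rw [disjoint_iff, inf_eq_left.2 hVK] at h
    exact h
  have h2 := hmin K (V.subgroupOf K) hcard (elemAb_subgroupOf hV) h1 hS
  obtain ⟨x, hx⟩ := Subgroup.ne_bot_iff_exists_ne_one.1 h2
  refine ⟨(x : K), (Subgroup.mem_inf.1 x.2).1, ?_, ?_⟩
  · intro h
    apply hx
    exact Subtype.ext (Subtype.ext h)
  · exact ⟨(x : K), (Subgroup.mem_inf.1 x.2).2, rfl⟩

/-- `O_2(K)` (as a subgroup of `G`) is normalised by `K`. -/
theorem le_normalizer_core (K : Subgroup G) : K ≤ normalizer (((Cfsg.pCore 2 K).map K.subtype : Subgroup G) : Set G) := by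
  have h : (K.subtype.range : Subgroup G) ≤ normalizer (((Cfsg.pCore 2 K).map K.subtype : Subgroup G) : Set G) := by
    have := Subgroup.le_normalizer_map (H := Cfsg.pCore 2 K) K.subtype
    rw [Subgroup.normalizer_eq_top_iff.2 (Lib.Cores.pCore_normal 2), ← MonoidHom.range_eq_map] at this
    exact this
  rwa [Subgroup.range_subtype] at h

/-- If `O_2(G) = 1` and `A ≤ K` is normal in `G`, then `O_2(K)` centralises `A`. -/
theorem core_comm (hO : Cfsg.pCore 2 G = ⊥) {A K : Subgroup G} [hA : A.Normal] (hAK : A ≤ K) {t a : G}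
    (ht : t ∈ (Cfsg.pCore 2 K).map K.subtype) (ha : a ∈ A) : t * a = a * t := by
  set T := (Cfsg.pCore 2 K).map K.subtype with hT
  have hTp : IsPGroup 2 T := (Lib.Cores.pCore_isPGroup 2).map _
  have h1 : T ⊓ A ≤ Cfsg.pCore 2 G := by
    refine Lib.GenFitting.le_pCore_of_normal_in_normal hA inf_le_right ?_ (hTp.to_le inf_le_left)
    exact Lib.MinNormal.le_normalizer_inf (hAK.trans (le_normalizer_core K)) Subgroup.le_normalizer
  have h2 : Disjoint T A := disjoint_iff.2 (le_bot_iff.1 (h1.trans hO.le))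
  have h3 : T ≤ normalizer (A : Set G) := by rw [Subgroup.normalizer_eq_top_iff.2 hA]; exact le_top
  exact (Lib.MinNormal.commute_of_disjoint h3 (hAK.trans (le_normalizer_core K)) h2 ht ha)

/-- Consequence of minimality: `W ≤ K < G` is not a Sidki pair in `K` when `W ∩ O_2(K) = 1`. -/
theorem exists_bad (hmin : Min.{u} (Nat.card G)) {W K : Subgroup G} (hW : Cfsg.IsElementaryAbelian 2 W)
    (hW1 : W ≠ ⊥) (hWK : W ≤ K) (hK : K ≠ ⊤)
    (hO : ∀ w ∈ W, w ∈ (Cfsg.pCore 2 K).map K.subtype → w = 1) :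
    ∃ v ∈ W, ∃ h ∈ K, Odd (orderOf h) ∧ v * h * v⁻¹ = h⁻¹ ∧ ∀ w ∈ W, w * h = h * w → w = 1 := by
  by_contra hcon
  push Not at hcon
  have hS : Cfsg.IsSidkiPair (W.subgroupOf K) := by
    intro h v hv hh hvh
    obtain ⟨w, hw, hwh, hw1⟩ := hcon (v : G) hv (h : G) h.2 (by rwa [Subgroup.orderOf_coe]) (by
      have := congrArg (Subtype.val) hvh
      simpa using this)
    refine ⟨⟨w, hWK hw⟩, hw, ?_, Subtype.ext hwh⟩
    intro h1; exact hw1 (congrArg Subtype.val h1)
  obtain ⟨v, hv, hv1, hvO⟩ := inf_core_ne_bot hmin hW hW1 hS hWK hK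
  exact hv1 (hO v hv hvO)

/-- If `A` is normal, `W` is a 2-group normalised by everything relevant and `h ∈ A ⊔ W` has odd order, then `h ∈ A`. -/
theorem mem_of_odd {A W : Subgroup G} [hA : A.Normal] (hW : Cfsg.IsElementaryAbelian 2 W) {h : G}
    (hh : h ∈ A ⊔ W) (ho : Odd (orderOf h)) : h ∈ A := by
  have h2 : h ^ 2 ∈ A := by
    rw [Subgroup.mem_sup_of_normal_left] at hh
    obtain ⟨a, ha, w, hw, rfl⟩ := hh
    have hw2 : w * w = 1 := by have := hW.2 w hw; rwa [pow_two] at this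
    have hwi : w⁻¹ = w := by rw [inv_eq_iff_mul_eq_one]; exact hw2
    have : (a * w) ^ 2 = a * (w * a * w⁻¹) := by
      rw [hwi, pow_two]; group
    rw [this]
    exact A.mul_mem ha (hA.conj_mem a ha w)
  obtain ⟨m, hm⟩ : ∃ m : ℕ, (h ^ 2) ^ m = h := exists_pow_eq_self_of_coprime ((Nat.coprime_two_left).2 ho)
  rw [← hm]
  exact A.pow_mem h2 m

/-- `A ⊔ V` is proper if `B ≠ 1` is normal with `A ⊓ B = 1` and `O_2(G) = 1`. -/
theorem sup_ne_top (hO : Cfsg.pCore 2 G = ⊥) {V : Subgroup G} (hV : Cfsg.IsElementaryAbelian 2 V)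
    {A B : Subgroup G} [hA : A.Normal] [hB : B.Normal] (hAB : A ⊓ B = ⊥) (hB1 : B ≠ ⊥) : A ⊔ V ≠ ⊤ := by
  intro htop
  apply hB1
  have h1 : B ≤ Cfsg.pCore 2 G := by
    refine Lib.Cores.le_pCore hB fun b => ⟨1, ?_⟩
    apply Subtype.ext
    have hb : (b : G) ∈ A ⊔ V := htop ▸ Subgroup.mem_top _
    rw [Subgroup.mem_sup_of_normal_left] at hb
    obtain ⟨a, ha, w, hw, haw⟩ := hb
    have hw2 : w * w = 1 := by have := hV.2 w hw; rwa [pow_two] at this
    have hwi : w⁻¹ = w := by rw [inv_eq_iff_mul_eq_one]; exact hw2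
    have h2 : (b : G) ^ 2 = a * (w * a * w⁻¹) := by
      rw [← haw, hwi, pow_two]; group
    have h3 : (b : G) ^ 2 ∈ A ⊓ B := by
      refine Subgroup.mem_inf.2 ⟨?_, B.pow_mem b.2 2⟩
      rw [h2]
      exact A.mul_mem ha (hA.conj_mem a ha w)
    rw [hAB, Subgroup.mem_bot] at h3
    simpa using h3
  exact le_bot_iff.1 (h1.trans hO.le)

/-- **The key step.** Two nontrivial normal subgroups `A`, `B` with `A ∩ B = 1` and `C_V(AB) = 1` are impossible. -/
theorem key (hmin : Min.{u} (Nat.card G)) (hO : Cfsg.pCore 2 G = ⊥) {V : Subgroup G}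
    (hV : Cfsg.IsElementaryAbelian 2 V) (hV1 : V ≠ ⊥) (hS : Cfsg.IsSidkiPair V)
    {A B : Subgroup G} [hA : A.Normal] [hB : B.Normal] (hAB : A ⊓ B = ⊥) (hA1 : A ≠ ⊥) (hB1 : B ≠ ⊥)
    (hC : ∀ v ∈ V, (∀ a ∈ A, v * a = a * v) → (∀ b ∈ B, v * b = b * v) → v = 1) : False := by
  have hAV : A ⊔ V ≠ ⊤ := sup_ne_top hO hV hAB hB1
  have hBV : B ⊔ V ≠ ⊤ := sup_ne_top hO hV (by rwa [inf_comm]) hA1
  have hcommAB : ∀ a ∈ A, ∀ b ∈ B, a * b = b * a := fun a ha b hb =>
    (Subgroup.commute_of_normal_of_disjoint A B hA hB (disjoint_iff.2 hAB) a b ha hb)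
  -- `V_B = C_V(B)`
  set VB : Subgroup G := V ⊓ centralizer (B : Set G) with hVB
  have hVB' : ∀ v, v ∈ VB ↔ v ∈ V ∧ ∀ b ∈ B, v * b = b * v := by
    intro v
    rw [hVB, Subgroup.mem_inf, Subgroup.mem_centralizer_iff]
    constructor
    · rintro ⟨h1, h2⟩; exact ⟨h1, fun b hb => (h2 b hb).symm⟩
    · rintro ⟨h1, h2⟩; exact ⟨h1, fun b hb => (h2 b hb).symm⟩
  have hVB1 : VB ≠ ⊥ := by
    obtain ⟨v, hv, hv1, hvO⟩ := inf_core_ne_bot hmin hV hV1 (sidki_subgroupOf hS le_sup_right)
      (K := B ⊔ V) le_sup_right hBV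
    intro h
    apply hv1
    have : v ∈ VB := (hVB' v).2 ⟨hv, fun b hb => core_comm hO le_sup_left hvO hb⟩
    rwa [h, Subgroup.mem_bot] at this
  have hVBe : Cfsg.IsElementaryAbelian 2 VB := elemAb_mono hV inf_le_left
  -- the first element
  obtain ⟨b, hb, α, hαK, hαo, hbα, hαc⟩ := exists_bad hmin hVBe hVB1 (K := A ⊔ VB) le_sup_right
    (fun h => hAV (top_le_iff.1 (h ▸ sup_le_sup_left inf_le_left A))) (by
      intro w hw hwO
      exact hC w ((hVB' w).1 hw).1 (fun a ha => core_comm hO le_sup_left hwO ha) ((hVB' w).1 hw).2)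
  have hαA : α ∈ A := mem_of_odd hVBe hαK hαo
  -- `X = C_V(α)`
  set X : Subgroup G := V ⊓ centralizer ({α} : Set G) with hX
  have hX' : ∀ v, v ∈ X ↔ v ∈ V ∧ v * α = α * v := by
    intro v
    rw [hX, Subgroup.mem_inf, Subgroup.mem_centralizer_singleton_iff]
  have hX1 : X ≠ ⊥ := by
    obtain ⟨w, hw, hw1, hwα⟩ := hS α b ((hVB' b).1 hb).1 hαo hbα
    intro h
    apply hw1
    have : w ∈ X := (hX' w).2 ⟨hw, hwα⟩
    rwa [h, Subgroup.mem_bot] at this
  have hXe : Cfsg.IsElementaryAbelian 2 X := elemAb_mono hV inf_le_left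
  obtain ⟨x, hx, β, hβK, hβo, hxβ, hβc⟩ := exists_bad hmin hXe hX1 (K := B ⊔ X) le_sup_right
    (fun h => hBV (top_le_iff.1 (h ▸ sup_le_sup_left inf_le_left B))) (by
      intro w hw hwO
      have hwX := (hX' w).1 hw
      exact hαc w ((hVB' w).2 ⟨hwX.1, fun b hb => core_comm hO le_sup_left hwO hb⟩) hwX.2)
  have hβB : β ∈ B := mem_of_odd hXe hβK hβo
  have hαβ : α * β = β * α := hcommAB α hαA β hβB
  have hxX := (hX' x).1 hx
  have hbV := (hVB' b).1 hb
  have hxα : x * α * x⁻¹ = α := by rw [hxX.2]; group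
  have hbβ : b * β * b⁻¹ = β := by rw [hbV.2 β hβB]; group
  have hinv : (b * x) * (α * β) * (b * x)⁻¹ = (α * β)⁻¹ := by
    calc (b * x) * (α * β) * (b * x)⁻¹ = (b * (x * α * x⁻¹) * b⁻¹) * (b * (x * β * x⁻¹) * b⁻¹) := by group
      _ = (b * α * b⁻¹) * (b * β⁻¹ * b⁻¹) := by rw [hxα, hxβ]
      _ = α⁻¹ * (b * β * b⁻¹)⁻¹ := by rw [hbα]; group
      _ = α⁻¹ * β⁻¹ := by rw [hbβ]
      _ = (α * β)⁻¹ := by rw [hαβ]; group
  have hodd : Odd (orderOf (α * β)) := by
    have hc : Commute α β := hαβ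
    exact Odd.of_dvd_nat (hαo.mul hβo) hc.orderOf_mul_dvd_mul_orderOf
  obtain ⟨w, hw, hw1, hwc⟩ := hS (α * β) (b * x) (V.mul_mem hbV.1 hxX.1) hodd hinv
  have h1 : α⁻¹ * (w * α * w⁻¹) = β * (w * β * w⁻¹)⁻¹ := by
    have h2 : (w * α * w⁻¹) * (w * β * w⁻¹) = α * β := by
      calc (w * α * w⁻¹) * (w * β * w⁻¹) = (w * (α * β)) * w⁻¹ := by group
        _ = α * β := by rw [hwc]; group
    rw [inv_mul_eq_iff_eq_mul, ← mul_assoc, ← h2]; group
  have h3 : α⁻¹ * (w * α * w⁻¹) ∈ A ⊓ B := by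
    refine Subgroup.mem_inf.2 ⟨A.mul_mem (A.inv_mem hαA) (hA.conj_mem α hαA w), ?_⟩
    rw [h1]
    exact B.mul_mem hβB (B.inv_mem (hB.conj_mem β hβB w))
  rw [hAB, Subgroup.mem_bot] at h3
  have h4 : w * α = α * w := by
    have : w * α * w⁻¹ = α := by rwa [inv_mul_eq_one, eq_comm] at h3
    rwa [mul_inv_eq_iff_eq_mul] at this
  have h5 : w * β = β * w := by
    have h6 : β * (w * β * w⁻¹)⁻¹ = 1 := by rw [← h1, h3]
    rw [mul_inv_eq_one] at h6
    rw [eq_comm, mul_inv_eq_iff_eq_mul] at h6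
    exact h6
  exact hw1 (hβc w ((hX' w).2 ⟨hw, h4⟩) h5)

/-! ### `O_2(G) = 1` and no abelian normal subgroups -/

theorem map_ne_bot {V N : Subgroup G} [N.Normal] (hV1 : V ≠ ⊥) (hN : V ⊓ N = ⊥) :
    V.map (QuotientGroup.mk' N) ≠ ⊥ := by
  intro h
  apply hV1
  rw [Subgroup.map_eq_bot_iff, QuotientGroup.ker_mk'] at h
  rw [← hN, inf_eq_left.2 h]

theorem card_quotient_lt {N : Subgroup G} (hN : N ≠ ⊥) : Nat.card (G ⧸ N) < Nat.card G := by
  have h1 := Subgroup.card_eq_card_quotient_mul_card_subgroup N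
  have h2 : 1 < Nat.card N := (Subgroup.one_lt_card_iff_ne_bot _).2 hN
  rw [h1]
  exact lt_mul_of_one_lt_right Nat.card_pos h2

theorem quotient_core (hmin : Min.{u} (Nat.card G)) {V : Subgroup G}
    (hV : Cfsg.IsElementaryAbelian 2 V) (hV1 : V ≠ ⊥) (hS : Cfsg.IsSidkiPair V) {N : Subgroup G} [N.Normal]
    (hN1 : N ≠ ⊥) (hN : V ⊓ N = ⊥) :
    ∃ v ∈ V, v ≠ 1 ∧ v ∈ (Cfsg.pCore 2 (G ⧸ N)).comap (QuotientGroup.mk' N) := by
  have h := hmin (G ⧸ N) (V.map (QuotientGroup.mk' N)) (card_quotient_lt hN1) (elemAb_map hV _)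
    (map_ne_bot hV1 hN) (sidki_quotient hV hS N hN)
  obtain ⟨x, hx⟩ := Subgroup.ne_bot_iff_exists_ne_one.1 h
  obtain ⟨⟨v, hv, hvx⟩, hx2⟩ := Subgroup.mem_inf.1 x.2
  refine ⟨v, hv, ?_, ?_⟩
  · rintro rfl
    apply hx
    apply Subtype.ext
    rw [← hvx, map_one]
    rfl
  · rw [Subgroup.mem_comap, hvx]
    exact hx2

theorem core_eq_bot (hmin : Min.{u} (Nat.card G)) {V : Subgroup G}
    (hV : Cfsg.IsElementaryAbelian 2 V) (hV1 : V ≠ ⊥) (hS : Cfsg.IsSidkiPair V)
    (hVO : V ⊓ Cfsg.pCore 2 G = ⊥) : Cfsg.pCore 2 G = ⊥ := by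
  by_contra h
  obtain ⟨v, hv, hv1, hvO⟩ := quotient_core hmin hV hV1 hS h hVO
  rw [Subgroup.mem_comap, Lib.Cores.pCore_quotient_pCore, Subgroup.mem_bot, QuotientGroup.mk'_apply,
    QuotientGroup.eq_one_iff] at hvO
  apply hv1
  have : v ∈ V ⊓ Cfsg.pCore 2 G := Subgroup.mem_inf.2 ⟨hv, hvO⟩
  rwa [hVO, Subgroup.mem_bot] at this

/-- An involution in the centre of a normal subgroup lies in `O_2(G)`. -/
theorem mem_core_of_center {B : Subgroup G} [hB : B.Normal] {v : G} (hv : v ∈ B)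
    (hc : ∀ b ∈ B, v * b = b * v) (hv2 : v ^ 2 = 1) : v ∈ Cfsg.pCore 2 G := by
  have hN : (B ⊓ centralizer (B : Set G)).Normal := inferInstance
  have hcomm : ∀ x ∈ B ⊓ centralizer (B : Set G), ∀ y ∈ B ⊓ centralizer (B : Set G), x * y = y * x := by
    intro x hx y hy
    exact ((Subgroup.mem_centralizer_iff.1 (Subgroup.mem_inf.1 hy).2) x (Subgroup.mem_inf.1 hx).1)
  have hnil : Group.IsNilpotent ↥(B ⊓ centralizer (B : Set G)) := by
    letI : CommGroup ↥(B ⊓ centralizer (B : Set G)) :=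
      { (inferInstance : Group ↥(B ⊓ centralizer (B : Set G))) with
        mul_comm := fun x y => Subtype.ext (hcomm x x.2 y y.2) }
    exact CommGroup.isNilpotent
  refine Lib.GenFitting.mem_pCore_of_mem_nilpotent_normal (p := 2) hN hnil (z := v) ?_ (k := 1) (by simpa using hv2)
  refine Subgroup.mem_inf.2 ⟨hv, Subgroup.mem_centralizer_iff.2 fun b hb => (hc b hb).symm⟩

/-- A subgroup normalised by `A` and `M` with `A ⊔ M = ⊤` is normal. -/
theorem normal_of_sup {A M N : Subgroup G} (h : A ⊔ M = ⊤) (hA : A ≤ normalizer (N : Set G))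
    (hM : M ≤ normalizer (N : Set G)) : N.Normal := by
  rw [← Subgroup.normalizer_eq_top_iff, ← top_le_iff, ← h]
  exact sup_le hA hM

/-- No abelian minimal normal subgroup. -/
theorem no_abelian (hmin : Min.{u} (Nat.card G)) (hO : Cfsg.pCore 2 G = ⊥) {V : Subgroup G}
    (hV : Cfsg.IsElementaryAbelian 2 V) (hV1 : V ≠ ⊥) (hS : Cfsg.IsSidkiPair V)
    {A : Subgroup G} [hA : A.Normal] (hA1 : A ≠ ⊥)
    (hAmin : ∀ M : Subgroup G, M.Normal → M ≤ A → M = ⊥ ∨ M = A)
    (hab : ∀ x ∈ A, ∀ y ∈ A, Commute x y) : False := by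
  obtain ⟨p, hp, hAp, hAe⟩ := Lib.MinNormalNonabelian.abelian_structure A hA1 hAmin hab
  haveI : Fact p.Prime := ⟨hp⟩
  have hp2 : p ≠ 2 := by
    rintro rfl
    exact hA1 (le_bot_iff.1 ((Lib.Cores.le_pCore hA hAp).trans hO.le))
  have hpo : Odd p := hp.odd_of_ne_two hp2
  have hodd : ∀ a ∈ A, Odd (orderOf a) := fun a ha =>
    Odd.of_dvd_nat hpo (orderOf_dvd_of_pow_eq_one (hAe a ha))
  have hv2 : ∀ v ∈ V, v ^ 2 = 1 := hV.2
  have hVA : V ⊓ A = ⊥ := by
    rw [eq_bot_iff]
    intro x hx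
    obtain ⟨hxV, hxA⟩ := Subgroup.mem_inf.1 hx
    have h1 : orderOf x ∣ 2 := orderOf_dvd_of_pow_eq_one (hv2 x hxV)
    have h2 := hodd x hxA
    rcases (Nat.dvd_prime Nat.prime_two).1 h1 with h | h
    · rw [Subgroup.mem_bot]; exact orderOf_eq_one_iff.1 h
    · rw [h] at h2; exact absurd h2 (by decide)
  by_cases hAV : A ⊔ V = ⊤
  · -- `V` acts irreducibly on `A`
    have hfix : ∀ v ∈ V, v ≠ 1 → ∀ a ∈ A, v * a = a * v → a = 1 := by
      intro v hv hv1 a ha hva
      have hn : (A ⊓ centralizer ({v} : Set G)).Normal := by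
        refine normal_of_sup hAV ?_ ?_
        · intro x hx
          rw [Subgroup.mem_normalizer_iff]
          intro y
          rw [Subgroup.mem_inf, Subgroup.mem_inf]
          constructor
          · rintro ⟨h1, h2⟩
            have : x * y * x⁻¹ = y := by rw [(hab x hx y h1).eq]; group
            rw [this]; exact ⟨h1, h2⟩
          · rintro ⟨h1, h2⟩
            have h3 : y ∈ A := by
              have := hA.conj_mem _ h1 x⁻¹
              simpa [mul_assoc] using this
            have : x * y * x⁻¹ = y := by rw [(hab x hx y h3).eq]; group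
            rw [this] at h1 h2; exact ⟨h1, h2⟩
        · refine Lib.MinNormal.le_normalizer_inf ?_ ?_
          · rw [Subgroup.normalizer_eq_top_iff.2 hA]; exact le_top
          · intro x hx
            rw [Subgroup.mem_normalizer_iff]
            intro y
            rw [Subgroup.mem_centralizer_singleton_iff, Subgroup.mem_centralizer_singleton_iff]
            have hxv : x * v = v * x := elemAb_comm hV hx hv
            have hxv' : x⁻¹ * v = v * x⁻¹ := by
              rw [inv_mul_eq_iff_eq_mul, ← mul_assoc, hxv]; group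
            constructor
            · intro h
              calc x * y * x⁻¹ * v = x * y * (x⁻¹ * v) := by group
                _ = x * (y * v) * x⁻¹ := by rw [hxv']; group
                _ = (x * v) * y * x⁻¹ := by rw [h]; group
                _ = v * (x * y * x⁻¹) := by rw [hxv]; group
            · intro h
              have h' : x⁻¹ * (x * y * x⁻¹ * v) * x = x⁻¹ * (v * (x * y * x⁻¹)) * x := by rw [h]
              calc y * v = x⁻¹ * (x * y * x⁻¹ * (x * v * x⁻¹)) * x := by group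
                _ = x⁻¹ * (x * y * x⁻¹ * v) * x := by rw [hxv]; group
                _ = x⁻¹ * (v * (x * y * x⁻¹)) * x := h'
                _ = (x⁻¹ * v) * x * y := by group
                _ = v * y := by rw [hxv']; group
      rcases hAmin _ hn inf_le_left with h | h
      · have : a ∈ A ⊓ centralizer ({v} : Set G) :=
          Subgroup.mem_inf.2 ⟨ha, Subgroup.mem_centralizer_singleton_iff.2 hva.symm⟩
        rwa [h, Subgroup.mem_bot] at this
      · exfalso
        apply hv1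
        have hcent : ∀ g : G, v * g = g * v := by
          intro g
          have hg : g ∈ A ⊔ V := hAV ▸ Subgroup.mem_top g
          have hle : A ⊔ V ≤ centralizer ({v} : Set G) := by
            refine sup_le (inf_eq_left.1 h) ?_
            intro w hw
            rw [Subgroup.mem_centralizer_singleton_iff]
            exact elemAb_comm hV hw hv
          exact (Subgroup.mem_centralizer_singleton_iff.1 (hle hg)).symm
        have : v ∈ Cfsg.pCore 2 G :=
          mem_core_of_center (B := ⊤) (Subgroup.mem_top v) (fun b _ => hcent b) (hv2 v hv)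
        rwa [hO, Subgroup.mem_bot] at this
    obtain ⟨a, ha, ha1⟩ : ∃ a ∈ A, a ≠ 1 := by
      obtain ⟨x, hx⟩ := Subgroup.ne_bot_iff_exists_ne_one.1 hA1
      exact ⟨x, x.2, fun h => hx (Subtype.ext h)⟩
    obtain ⟨v, hv, hv1⟩ : ∃ a ∈ V, a ≠ 1 := by
      obtain ⟨x, hx⟩ := Subgroup.ne_bot_iff_exists_ne_one.1 hV1
      exact ⟨x, x.2, fun h => hx (Subtype.ext h)⟩
    have hvv : v * v = 1 := by have := hv2 v hv; rwa [pow_two] at this
    have hvi : v⁻¹ = v := by rw [inv_eq_iff_mul_eq_one]; exact hvv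
    have hinv : v * a * v⁻¹ = a⁻¹ := by
      have h1 : (v * a * v⁻¹) * a = 1 := by
        refine hfix v hv hv1 _ (A.mul_mem (hA.conj_mem a ha v) ha) ?_
        have h2 := (hab _ (hA.conj_mem a ha v) a ha).eq
        calc v * ((v * a * v⁻¹) * a) = v * (a * (v * a * v⁻¹)) := by rw [h2]
          _ = v * a * (v * a * v⁻¹) := by group
          _ = v * a * v⁻¹ * a * v := by rw [hvi]; group
          _ = (v * a * v⁻¹) * a * v := by group
      exact eq_inv_of_mul_eq_one_left h1
    obtain ⟨w, hw, hw1, hwa⟩ := hS a v hv (hodd a ha) hinv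
    exact ha1 (hfix w hw hw1 a ha hwa)
  · -- `A V < G`
    obtain ⟨v₀, hv₀, hv₀1, hv₀O⟩ := inf_core_ne_bot hmin hV hV1 (sidki_subgroupOf hS le_sup_right)
      (K := A ⊔ V) le_sup_right hAV
    have hv₀A : ∀ a ∈ A, v₀ * a = a * v₀ := fun a ha => core_comm hO le_sup_left hv₀O ha
    obtain ⟨v₁, hv₁, hv₁1, hv₁O⟩ := quotient_core hmin hV hV1 hS hA1 hVA
    set K : Subgroup G := (Cfsg.pCore 2 (G ⧸ A)).comap (QuotientGroup.mk' A) with hK
    haveI hKn : K.Normal := by
      haveI := Lib.Cores.pCore_normal (G := G ⧸ A) 2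
      exact Subgroup.normal_comap _
    obtain ⟨S, hVS⟩ := (elemAb_isPGroup hV).exists_le_sylow
    set T : Subgroup G := (S : Subgroup G) ⊓ K with hT
    set M : Subgroup G := normalizer (T : Set G) with hM
    have hTp : IsPGroup 2 T := S.isPGroup'.to_le inf_le_left
    have hKT : K ≤ A ⊔ T := by
      refine Lib.SylowNormalInf.le_sup_inf S K A ?_
      intro x hx
      obtain ⟨k, hk⟩ := Lib.Cores.pCore_isPGroup (G := G ⧸ A) 2 ⟨QuotientGroup.mk' A x, hx⟩
      refine ⟨k, ?_⟩
      rw [← QuotientGroup.eq_one_iff]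
      have := congrArg Subtype.val hk
      simpa using this
    have hAM : A ⊔ M = ⊤ := by
      have h1 := Lib.SylowNormalInf.normalizer_inf_sup_eq_top S K
      rw [← top_le_iff, ← h1]
      refine sup_le le_sup_right (hKT.trans (sup_le_sup_left ?_ A))
      exact Subgroup.le_normalizer
    have hVM : V ≤ M := by
      refine Lib.MinNormal.le_normalizer_inf (hVS.trans Subgroup.le_normalizer) ?_
      rw [Subgroup.normalizer_eq_top_iff.2 hKn]; exact le_top
    -- `A ⊓ M = ⊥`
    have hTA : Disjoint A T := by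
      rw [disjoint_iff, eq_bot_iff]
      intro x hx
      obtain ⟨hxA, hxT⟩ := Subgroup.mem_inf.1 hx
      obtain ⟨k, hk⟩ := hTp ⟨x, hxT⟩
      have hk' : x ^ 2 ^ k = 1 := congrArg Subtype.val hk
      have h2 := hodd x hxA
      have h3 : orderOf x = 1 := by
        have h4 := orderOf_dvd_of_pow_eq_one hk'
        exact Nat.eq_one_of_dvd_coprimes
          (Nat.Coprime.pow_left k ((Nat.coprime_two_left).2 h2)) h4 dvd_rfl
      rw [Subgroup.mem_bot]; exact orderOf_eq_one_iff.1 h3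
    have hA0 : (A ⊓ M).Normal := by
      refine normal_of_sup hAM ?_ ?_
      · intro x hx
        rw [Subgroup.mem_normalizer_iff]
        intro y
        rw [Subgroup.mem_inf, Subgroup.mem_inf]
        constructor
        · rintro ⟨h1, h2⟩
          have : x * y * x⁻¹ = y := by rw [(hab x hx y h1).eq]; group
          rw [this]; exact ⟨h1, h2⟩
        · rintro ⟨h1, h2⟩
          have h3 : y ∈ A := by
            have := hA.conj_mem _ h1 x⁻¹
            simpa [mul_assoc] using this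
          have : x * y * x⁻¹ = y := by rw [(hab x hx y h3).eq]; group
          rw [this] at h1 h2; exact ⟨h1, h2⟩
      · refine Lib.MinNormal.le_normalizer_inf ?_ Subgroup.le_normalizer
        rw [Subgroup.normalizer_eq_top_iff.2 hA]; exact le_top
    have hAM0 : A ⊓ M = ⊥ := by
      rcases hAmin _ hA0 inf_le_left with h | h
      · exact h
      · exfalso
        have h1 : A ≤ M := inf_eq_left.1 h
        have h2 : M = ⊤ := by rw [← hAM]; exact (sup_eq_right.2 h1).symm
        have h3 : T.Normal := Subgroup.normalizer_eq_top_iff.1 h2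
        have h4 : T = ⊥ := le_bot_iff.1 ((Lib.Cores.le_pCore h3 hTp).trans hO.le)
        rw [h4, sup_bot_eq] at hKT
        have : v₁ ∈ V ⊓ A := Subgroup.mem_inf.2 ⟨hv₁, hKT hv₁O⟩
        rw [hVA, Subgroup.mem_bot] at this
        exact hv₁1 this
    -- `B = C_M(A)`
    have hBn : (centralizer (A : Set G) ⊓ M).Normal := by
      refine normal_of_sup hAM ?_ ?_
      · intro x hx
        rw [Subgroup.mem_normalizer_iff]
        intro y
        rw [Subgroup.mem_inf, Subgroup.mem_inf]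
        constructor
        · rintro ⟨h1, h2⟩
          have : x * y * x⁻¹ = y := by rw [Subgroup.mem_centralizer_iff.1 h1 x hx]; group
          rw [this]; exact ⟨h1, h2⟩
        · rintro ⟨h1, h2⟩
          have h3 : y ∈ centralizer (A : Set G) := by
            have h5 : (centralizer (A : Set G)).Normal := inferInstance
            have := h5.conj_mem _ h1 x⁻¹
            simpa [mul_assoc] using this
          have : x * y * x⁻¹ = y := by rw [Subgroup.mem_centralizer_iff.1 h3 x hx]; group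
          rw [this] at h1 h2; exact ⟨h1, h2⟩
      · refine Lib.MinNormal.le_normalizer_inf ?_ Subgroup.le_normalizer
        have h5 : (centralizer (A : Set G)).Normal := inferInstance
        rw [Subgroup.normalizer_eq_top_iff.2 h5]; exact le_top
    haveI := hBn
    have hAB : A ⊓ (centralizer (A : Set G) ⊓ M) = ⊥ := by
      rw [eq_bot_iff, ← hAM0]
      exact inf_le_inf_left A inf_le_right
    have hB1 : centralizer (A : Set G) ⊓ M ≠ ⊥ := by
      intro h
      apply hv₀1
      have : v₀ ∈ centralizer (A : Set G) ⊓ M :=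
        Subgroup.mem_inf.2 ⟨Subgroup.mem_centralizer_iff.2 fun a ha => (hv₀A a ha).symm, hVM hv₀⟩
      rwa [h, Subgroup.mem_bot] at this
    refine key hmin hO hV hV1 hS hAB hA1 hB1 ?_
    intro v hv h1 h2
    have : v ∈ Cfsg.pCore 2 G :=
      mem_core_of_center (B := centralizer (A : Set G) ⊓ M)
        (Subgroup.mem_inf.2 ⟨Subgroup.mem_centralizer_iff.2 fun a ha => (h1 a ha).symm, hVM hv⟩) h2 (hv2 v hv)
    rwa [hO, Subgroup.mem_bot] at this

/-! ### The non-abelian minimal normal subgroup -/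

/-- The centralizer of a (non-abelian) minimal normal subgroup is trivial. -/
theorem centralizer_eq_bot (hmin : Min.{u} (Nat.card G)) (hO : Cfsg.pCore 2 G = ⊥) {V : Subgroup G}
    (hV : Cfsg.IsElementaryAbelian 2 V) (hV1 : V ≠ ⊥) (hS : Cfsg.IsSidkiPair V)
    {A : Subgroup G} [hA : A.Normal] (hA1 : A ≠ ⊥)
    (hAmin : ∀ M : Subgroup G, M.Normal → M ≤ A → M = ⊥ ∨ M = A) : centralizer (A : Set G) = ⊥ := by
  by_contra hB1
  have hAB : A ⊓ centralizer (A : Set G) = ⊥ := by
    rcases hAmin (A ⊓ centralizer (A : Set G)) inferInstance inf_le_left with h | h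
    · exact h
    · exfalso
      refine no_abelian hmin hO hV hV1 hS hA1 hAmin fun x hx y hy => ?_
      exact Subgroup.mem_centralizer_iff.1 (inf_eq_left.1 h hy) x hx
  refine key hmin hO hV hV1 hS hAB hA1 hB1 ?_
  intro v hv h1 h2
  have : v ∈ Cfsg.pCore 2 G :=
    mem_core_of_center (B := centralizer (A : Set G))
      (Subgroup.mem_centralizer_iff.2 fun a ha => (h1 a ha).symm) h2 (hV.2 v hv)
  rwa [hO, Subgroup.mem_bot] at this

theorem sup_eq_top (hmin : Min.{u} (Nat.card G)) (hO : Cfsg.pCore 2 G = ⊥) {V : Subgroup G}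
    (hV : Cfsg.IsElementaryAbelian 2 V) (hV1 : V ≠ ⊥) (hS : Cfsg.IsSidkiPair V)
    {A : Subgroup G} [hA : A.Normal] (hC : centralizer (A : Set G) = ⊥) : A ⊔ V = ⊤ := by
  by_contra hAV
  obtain ⟨v, hv, hv1, hvO⟩ := inf_core_ne_bot hmin hV hV1 (sidki_subgroupOf hS le_sup_right)
    (K := A ⊔ V) le_sup_right hAV
  apply hv1
  have : v ∈ centralizer (A : Set G) :=
    Subgroup.mem_centralizer_iff.2 fun a ha => (core_comm hO le_sup_left hvO ha).symm
  rwa [hC, Subgroup.mem_bot] at this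

theorem conj_mem_map {L : Subgroup G} (g : G) {x : G} (hx : x ∈ L) :
    g * x * g⁻¹ ∈ L.map (MulAut.conj g).toMonoidHom := ⟨x, hx, by simp⟩

theorem mem_map_conj_iff {L : Subgroup G} (g : G) {x : G} :
    x ∈ L.map (MulAut.conj g).toMonoidHom ↔ g⁻¹ * x * g ∈ L := by
  constructor
  · rintro ⟨y, hy, rfl⟩
    simpa [mul_assoc] using hy
  · intro h
    exact ⟨_, h, by simp [mul_assoc]⟩

theorem map_conj_eq_self {L : Subgroup G} {g : G} (hg : g ∈ normalizer (L : Set G)) :
    L.map (MulAut.conj g).toMonoidHom = L := by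
  ext x
  rw [mem_map_conj_iff]
  have := (Subgroup.mem_normalizer_iff.1 (inv_mem hg)) x
  rw [inv_inv] at this
  exact this.symm

theorem mem_normalizer_of_map_conj {L : Subgroup G} {g : G} (h : L.map (MulAut.conj g).toMonoidHom = L) :
    g ∈ normalizer (L : Set G) := by
  rw [Subgroup.mem_normalizer_iff]
  intro x
  constructor
  · intro hx
    rw [← h]; exact conj_mem_map g hx
  · intro hx
    rw [← h, mem_map_conj_iff] at hx
    simpa [mul_assoc] using hx

/-- **`A` is simple.** -/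
theorem isSimple (hmin : Min.{u} (Nat.card G)) (hO : Cfsg.pCore 2 G = ⊥) {V : Subgroup G}
    (hV : Cfsg.IsElementaryAbelian 2 V) (hV1 : V ≠ ⊥) (hS : Cfsg.IsSidkiPair V)
    {A : Subgroup G} [hA : A.Normal] (hA1 : A ≠ ⊥)
    (hAmin : ∀ M : Subgroup G, M.Normal → M ≤ A → M = ⊥ ∨ M = A) (hC : centralizer (A : Set G) = ⊥)
    (hAV : A ⊔ V = ⊤) : IsSimpleGroup A ∧ ¬ IsMulCommutative A := by
  have hna : ¬ ∀ x ∈ A, ∀ y ∈ A, Commute x y := fun h => no_abelian hmin hO hV hV1 hS hA1 hAmin h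
  obtain ⟨⟨L, hL⟩, hind, hsup, hsimple, hcent, -⟩ := Lib.MinNormalNonabelian.nonabelian_structure A hAmin hna
  have hnc : ¬ IsMulCommutative A := fun h =>
    hna fun x hx y hy => congrArg Subtype.val (h.is_comm.comm (⟨x, hx⟩ : A) (⟨y, hy⟩ : A))
  refine ⟨?_, hnc⟩
  by_cases hLA : L = A
  · rw [← hLA]; exact hsimple L hL
  exfalso
  obtain ⟨hLleA, hL1, hLn, hLmin⟩ := Lib.MinNormalNonabelian.mem_minSet.1 hL
  have hv2 : ∀ v ∈ V, v ^ 2 = 1 := hV.2
  -- distinct members of `minSet A` commute and meet trivially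
  have hmeet : ∀ T ∈ Lib.MinNormalNonabelian.minSet A, T ≠ L → T ⊓ L = ⊥ := by
    intro T hT hTL
    obtain ⟨-, -, hTn, hTmin⟩ := Lib.MinNormalNonabelian.mem_minSet.1 hT
    have h1 : A ≤ normalizer ((T ⊓ L : Subgroup G) : Set G) := Lib.MinNormal.le_normalizer_inf hTn hLn
    rcases hTmin _ inf_le_left h1 with h | h
    · exact h
    · rcases hLmin _ inf_le_right h1 with h' | h'
      · exact h'
      · exact absurd (h.symm.trans h') hTL
  have hcomm : ∀ S ∈ Lib.MinNormalNonabelian.minSet A, ∀ T ∈ Lib.MinNormalNonabelian.minSet A, S ≠ T →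
      ∀ x ∈ S, ∀ y ∈ T, x * y = y * x := fun S hS' T hT hne x hx y hy =>
    (Lib.MinNormal.commute_of_mem hind (fun S hS => (Lib.MinNormalNonabelian.mem_minSet.1 hS).2.2.1)
      (fun S hS => (Lib.MinNormalNonabelian.mem_minSet.1 hS).1) hS' hT hne hx hy).eq
  have hconj : ∀ g : G, L.map (MulAut.conj g).toMonoidHom ∈ Lib.MinNormalNonabelian.minSet A := fun g =>
    Lib.MinNormalNonabelian.map_conj_mem_minSet hL g
  -- `L` is not normal in `G`
  have hLG : ¬ L.Normal := fun h => by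
    rcases hAmin L h hLleA with h' | h'
    · exact hL1 h'
    · exact hLA h'
  -- `C_V(L) = 1`
  have hCVL : ∀ v ∈ V, (∀ l ∈ L, v * l = l * v) → v = 1 := by
    intro v hv hvl
    have h1 : v ∈ centralizer (A : Set G) := by
      have h2 : A ≤ centralizer ({v} : Set G) := by
        -- `A = ⟨L^G⟩`
        have h3 := Lib.MinNormal.sSup_conjugates hAmin hLleA hL1
        rw [← h3]
        refine sSup_le ?_
        rintro _ ⟨g, rfl⟩
        have hg : g ∈ A ⊔ V := hAV ▸ Subgroup.mem_top g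
        rw [sup_comm, Subgroup.mem_sup_of_normal_right] at hg
        obtain ⟨u, hu, a, ha, rfl⟩ := hg
        intro x hx
        have hx' := (mem_map_conj_iff _).1 hx
        have h4 : u⁻¹ * x * u ∈ L := by
          have h5 := (Subgroup.mem_normalizer_iff.1 (hLn ha) _).1 hx'
          simpa [mul_assoc] using h5
        rw [Subgroup.mem_centralizer_singleton_iff]
        have h6 := hvl _ h4
        have huv : u * v = v * u := elemAb_comm hV hu hv
        calc x * v = u * (u⁻¹ * x * u) * (u⁻¹ * v) := by group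
          _ = u * (u⁻¹ * x * u) * (v * u⁻¹) := by
              have : u⁻¹ * v = v * u⁻¹ := by rw [inv_mul_eq_iff_eq_mul, ← mul_assoc, huv]; group
              rw [this]
          _ = u * ((u⁻¹ * x * u) * v) * u⁻¹ := by group
          _ = (u * v) * (u⁻¹ * x * u) * u⁻¹ := by rw [← h6]; group
          _ = v * x := by rw [huv]; group
      exact Subgroup.mem_centralizer_iff.2 fun a ha =>
        (Subgroup.mem_centralizer_singleton_iff.1 (h2 ha))
    rwa [hC, Subgroup.mem_bot] at h1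
  -- `L` is not a 2-group
  have hL2 : ¬ IsPGroup 2 L := by
    intro h
    haveI : Nontrivial L := (Subgroup.nontrivial_iff_ne_bot L).2 hL1
    haveI := h.center_nontrivial
    obtain ⟨z, hz⟩ := exists_ne (1 : center L)
    apply hz
    apply Subtype.ext
    apply Subtype.ext
    refine hcent L hL ((z : L) : G) (z : L).2 fun t ht => ?_
    exact congrArg Subtype.val (Subgroup.mem_center_iff.1 z.2 ⟨t, ht⟩).symm
  set V₁ : Subgroup G := V ⊓ normalizer (L : Set G) with hV₁
  have hV₁e : Cfsg.IsElementaryAbelian 2 V₁ := elemAb_mono hV inf_le_left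
  by_cases hV₁1 : V₁ = ⊥
  · -- regular action
    obtain ⟨v, hv, hv1⟩ : ∃ a ∈ V, a ≠ 1 := by
      obtain ⟨x, hx⟩ := Subgroup.ne_bot_iff_exists_ne_one.1 hV1
      exact ⟨x, x.2, fun h => hx (Subtype.ext h)⟩
    have hreg : ∀ w ∈ V, L.map (MulAut.conj w).toMonoidHom = L → w = 1 := by
      intro w hw h
      have : w ∈ V₁ := Subgroup.mem_inf.2 ⟨hw, mem_normalizer_of_map_conj h⟩
      rwa [hV₁1, Subgroup.mem_bot] at this
    have hvL : L.map (MulAut.conj v).toMonoidHom ≠ L := fun h => hv1 (hreg v hv h)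
    -- an element of odd order in `L`
    obtain ⟨h, hhL, hh1, hho⟩ : ∃ h ∈ L, h ≠ 1 ∧ Odd (orderOf h) := by
      by_contra hcon
      push Not at hcon
      apply hL2
      intro x
      obtain ⟨a, b, hb, hab⟩ := Nat.exists_eq_two_pow_mul_odd (orderOf_pos (x : G)).ne'
      refine ⟨a, Subtype.ext ?_⟩
      by_contra hx
      have h1 : (x : G) ^ 2 ^ a ≠ 1 := by simpa using hx
      refine hcon ((x : G) ^ 2 ^ a) (L.pow_mem x.2 _) h1 ?_
      refine Odd.of_dvd_nat hb (orderOf_dvd_of_pow_eq_one ?_)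
      rw [← pow_mul, ← hab, pow_orderOf_eq_one]
    have hvv : v * v = 1 := by have := hv2 v hv; rwa [pow_two] at this
    have hvi : v⁻¹ = v := by rw [inv_eq_iff_mul_eq_one]; exact hvv
    have hhv : h * (v * h * v⁻¹) = (v * h * v⁻¹) * h :=
      hcomm L hL _ (hconj v) (Ne.symm hvL) h hhL _ (conj_mem_map v hhL)
    set k : G := h⁻¹ * (v * h * v⁻¹) with hk
    have hkinv : v * k * v⁻¹ = k⁻¹ := by
      have h1 : v * k * v⁻¹ = (v * h * v⁻¹)⁻¹ * h := by
        rw [hk]
        calc v * (h⁻¹ * (v * h * v⁻¹)) * v⁻¹ = (v * h * v⁻¹)⁻¹ * (v * v) * h * (v⁻¹ * v⁻¹) := by group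
          _ = (v * h * v⁻¹)⁻¹ * h := by
              rw [hvv, hvi, hvv]; group
      rw [h1, hk]; group
    have hko : Odd (orderOf k) := by
      have hc : Commute h⁻¹ (v * h * v⁻¹) := (show Commute h (v * h * v⁻¹) from hhv).inv_left
      have h1 : Odd (orderOf h⁻¹) := by rwa [orderOf_inv]
      have h2 : Odd (orderOf (v * h * v⁻¹)) := by
        have : orderOf (v * h * v⁻¹) = orderOf h := by
          have := orderOf_injective (MulAut.conj v).toMonoidHom (MulAut.conj v).injective h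
          simpa using this
        rwa [this]
      exact Odd.of_dvd_nat (h1.mul h2) hc.orderOf_mul_dvd_mul_orderOf
    obtain ⟨w, hw, hw1, hwk⟩ := hS k v hv hko hkinv
    -- `k` does not centralise `L`
    obtain ⟨l, hl, hkl⟩ : ∃ l ∈ L, k * l ≠ l * k := by
      by_contra hcon
      push Not at hcon
      apply hh1
      refine hcent L hL h hhL fun t ht => ?_
      have h1 := hcon t ht
      have h2 : (v * h * v⁻¹) * t = t * (v * h * v⁻¹) :=
        (hcomm L hL _ (hconj v) (Ne.symm hvL) t ht _ (conj_mem_map v hhL)).symm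
      rw [hk] at h1
      have h3 : h⁻¹ * t * (v * h * v⁻¹) = t * h⁻¹ * (v * h * v⁻¹) := by
        calc h⁻¹ * t * (v * h * v⁻¹) = h⁻¹ * (t * (v * h * v⁻¹)) := by group
          _ = h⁻¹ * (v * h * v⁻¹) * t := by rw [← h2]; group
          _ = t * (h⁻¹ * (v * h * v⁻¹)) := h1
          _ = t * h⁻¹ * (v * h * v⁻¹) := by group
      have h4 : h⁻¹ * t = t * h⁻¹ := mul_right_cancel h3
      exact ((show Commute h⁻¹ t from h4).inv_left : Commute (h⁻¹)⁻¹ t) |> fun h => by rwa [inv_inv] at h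
    by_cases hwv : L.map (MulAut.conj w).toMonoidHom = L.map (MulAut.conj v).toMonoidHom
    · -- `w = v`
      have h1 : v⁻¹ * w = 1 := by
        refine hreg _ (V.mul_mem (V.inv_mem hv) hw) ?_
        rw [← Lib.MinNormal.map_conj_map_conj, hwv, Lib.MinNormal.map_conj_map_conj, inv_mul_cancel,
          Lib.MinNormal.map_conj_one]
      have h2 : w = v := (inv_mul_eq_one.1 h1).symm
      rw [h2] at hwk
      have h3 : k⁻¹ = k := by rw [← hkinv, hwk]; group
      have h4 : k ^ 2 = 1 := by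
        rw [pow_two]; nth_rewrite 1 [← h3]; group
      have h5 : k = 1 := by
        have h6 : orderOf k ∣ 2 := orderOf_dvd_of_pow_eq_one h4
        rcases (Nat.dvd_prime Nat.prime_two).1 h6 with h | h
        · exact orderOf_eq_one_iff.1 h
        · rw [h] at hko; exact absurd hko (by decide)
      have h6 : v * h * v⁻¹ = h := by
        rw [hk, inv_mul_eq_one] at h5; exact h5.symm
      have h7 : h ∈ L.map (MulAut.conj v).toMonoidHom ⊓ L := by
        refine Subgroup.mem_inf.2 ⟨?_, hhL⟩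
        nth_rewrite 1 [← h6]
        exact conj_mem_map v hhL
      rw [hmeet _ (hconj v) hvL, Subgroup.mem_bot] at h7
      exact hh1 h7
    · -- `L^w` commutes with `L` and `L^v`
      have hwL : L.map (MulAut.conj w).toMonoidHom ≠ L := fun h => hw1 (hreg w hw h)
      apply hkl
      -- transport by `w`
      have h1 : w * l * w⁻¹ ∈ L.map (MulAut.conj w).toMonoidHom := conj_mem_map w hl
      have h2 : h * (w * l * w⁻¹) = (w * l * w⁻¹) * h :=
        hcomm L hL _ (hconj w) (Ne.symm hwL) h hhL _ h1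
      have h3 : (v * h * v⁻¹) * (w * l * w⁻¹) = (w * l * w⁻¹) * (v * h * v⁻¹) :=
        hcomm _ (hconj v) _ (hconj w) (Ne.symm hwv) _ (conj_mem_map v hhL) _ h1
      have h4 : Commute k (w * l * w⁻¹) := by
        have h5 : Commute h⁻¹ (w * l * w⁻¹) := (show Commute h (w * l * w⁻¹) from h2).inv_left
        exact h5.mul_left h3
      have h6 : w⁻¹ * k * w = k := by rw [mul_assoc, ← hwk]; group
      calc k * l = w⁻¹ * k * w * l := by rw [h6]
        _ = w⁻¹ * (k * (w * l * w⁻¹)) * w := by group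
        _ = w⁻¹ * ((w * l * w⁻¹) * k) * w := by rw [h4.eq]
        _ = l * (w⁻¹ * k * w) := by group
        _ = l * k := by rw [h6]
  · -- `V₁ ≠ 1`
    have hK : L ⊔ V₁ ≠ ⊤ := by
      intro h
      apply hLG
      exact normal_of_sup h Subgroup.le_normalizer inf_le_right
    have hV₁n : V₁ ≤ normalizer (L : Set G) := inf_le_right
    obtain ⟨v, hv, h, hhK, hho, hvh, hhc⟩ := exists_bad hmin hV₁e hV₁1 (K := L ⊔ V₁) le_sup_right hK (by
      intro w hw hwO
      refine hCVL w (Subgroup.mem_inf.1 hw).1 ?_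
      -- `O_2(L V₁)` centralises `L`
      set T := (Cfsg.pCore 2 ↥(L ⊔ V₁)).map (L ⊔ V₁).subtype with hT
      have hTp : IsPGroup 2 T := (Lib.Cores.pCore_isPGroup 2).map _
      have hTK : T ≤ L ⊔ V₁ := Subgroup.map_subtype_le _
      have hLT : L ≤ normalizer (T : Set G) := le_sup_left.trans (le_normalizer_core _)
      have hTL : T ≤ normalizer (L : Set G) := hTK.trans (sup_le Subgroup.le_normalizer hV₁n)
      have h1 : T ⊓ L = ⊥ := by
        haveI := hsimple L hL
        have h2 : ((T ⊓ L).subgroupOf L).Normal := by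
          rw [Subgroup.normal_subgroupOf_iff_le_normalizer inf_le_right]
          exact Lib.MinNormal.le_normalizer_inf hLT Subgroup.le_normalizer
        rcases h2.eq_bot_or_eq_top with h3 | h3
        · rw [Subgroup.subgroupOf_eq_bot, disjoint_iff] at h3
          rwa [inf_assoc, inf_idem] at h3
        · exfalso
          apply hL2
          rw [Subgroup.subgroupOf_eq_top] at h3
          exact hTp.to_le (h3.trans inf_le_left)
      intro l hl
      exact (Lib.MinNormal.commute_of_disjoint hTL hLT (disjoint_iff.2 h1) hwO hl).eq)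
    have hhL : h ∈ L := by
      -- `h` has odd order in `L V₁`
      have h2 : h ^ 2 ∈ L := by
        rw [sup_comm, ← SetLike.mem_coe, Subgroup.coe_mul_of_left_le_normalizer_right V₁ L hV₁n] at hhK
        obtain ⟨w, hw, a, ha, rfl⟩ := Set.mem_mul.1 hhK
        have hw' : w ∈ V₁ := hw
        have ha' : a ∈ L := ha
        have hw2 : w * w = 1 := by have := hV₁e.2 w hw'; rwa [pow_two] at this
        have hwi : w⁻¹ = w := by rw [inv_eq_iff_mul_eq_one]; exact hw2
        have : (w * a) ^ 2 = (w * a * w⁻¹) * a := by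
          rw [hwi, pow_two]; group
        rw [this]
        exact L.mul_mem ((Subgroup.mem_normalizer_iff.1 (hV₁n hw') a).1 ha') ha'
      obtain ⟨m, hm⟩ : ∃ m : ℕ, (h ^ 2) ^ m = h := exists_pow_eq_self_of_coprime ((Nat.coprime_two_left).2 hho)
      rw [← hm]
      exact L.pow_mem h2 m
    obtain ⟨w, hw, hw1, hwh⟩ := hS h v (Subgroup.mem_inf.1 hv).1 hho hvh
    have hh1 : h ≠ 1 := by
      rintro rfl
      apply hV₁1
      rw [eq_bot_iff]
      intro x hx
      rw [Subgroup.mem_bot]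
      exact hhc x hx (by simp)
    apply hw1
    refine hhc w (Subgroup.mem_inf.2 ⟨hw, ?_⟩) hwh
    by_contra hwn
    have hwL : L.map (MulAut.conj w).toMonoidHom ≠ L := fun h => hwn (mem_normalizer_of_map_conj h)
    apply hh1
    have h7 : h ∈ L.map (MulAut.conj w).toMonoidHom ⊓ L := by
      refine Subgroup.mem_inf.2 ⟨?_, hhL⟩
      have : w * h * w⁻¹ = h := by rw [hwh]; group
      nth_rewrite 1 [← this]
      exact conj_mem_map w hhL
    rwa [hmeet _ (hconj w) hwL, Subgroup.mem_bot] at h7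

/-! ### Identification of `F*(G)` -/

/-- A nonabelian simple group is quasisimple. -/
theorem quasisimple_of_simple {X : Type*} [Group X] (hs : IsSimpleGroup X)
    (hnc : ¬ IsMulCommutative X) : Cfsg.IsQuasisimple X := by
  have hc : center X = ⊥ := by
    rcases hs.eq_bot_or_eq_top_of_normal (center X) inferInstance with h | h
    · exact h
    · exfalso
      apply hnc
      refine ⟨⟨fun a b => ?_⟩⟩
      have : b ∈ center X := by rw [h]; exact mem_top b
      exact (mem_center_iff.mp this a)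
  refine ⟨?_, ?_⟩
  · rw [Group.isPerfect_def]
    rcases hs.eq_bot_or_eq_top_of_normal (commutator X) inferInstance with h | h
    · exfalso
      apply hnc
      refine ⟨⟨fun a b => ?_⟩⟩
      have : ⁅a, b⁆ ∈ commutator X := by
        rw [_root_.commutator_def]; exact commutator_mem_commutator (mem_top a) (mem_top b)
      rw [h, mem_bot, commutatorElement_eq_one_iff_mul_comm] at this
      exact this
    · exact h
  · have e : X ⧸ center X ≃* X := (QuotientGroup.quotientMulEquivOfEq hc).trans QuotientGroup.quotientBot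
    have : Nontrivial (X ⧸ center X) := e.toEquiv.nontrivial
    exact IsSimpleGroup.isSimpleGroup_of_surjective e.symm.toMonoidHom e.symm.surjective

/-- If `A` is a non-abelian simple normal subgroup with trivial centralizer, then `F*(G) = A`. -/
theorem genFitting_eq {H : Type*} [Group H] {A : Subgroup H} (hA : A.Normal) (hs : IsSimpleGroup A)
    (hnc : ¬ IsMulCommutative A) (hC : centralizer (A : Set H) = ⊥) :
    Cfsg.generalizedFittingSubgroup H = A := by
  have hcomp : Cfsg.IsComponent A := ⟨hA.isSubnormal, quasisimple_of_simple hs hnc⟩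
  apply le_antisymm
  · rw [Lib.GenFitting.genFitting_def]
    refine sup_le ?_ ?_
    · rw [SignalizersComponents.Components.layer_le_iff]
      intro K hK
      by_contra hKA
      have hne : K ≠ A := fun h => hKA h.le
      have h1 := SignalizersComponents.Components.component_le_centralizer_of_ne hK hcomp hne
      rw [hC, le_bot_iff] at h1
      exact SignalizersComponents.Components.component_ne_bot hK h1
    · have h1 : A ≤ centralizer (Cfsg.fittingSubgroup H : Set H) :=
        (SignalizersComponents.Components.component_le_layer hcomp).trans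
          SignalizersComponents.Components.layer_le_centralizer_fitting
      have h2 : Cfsg.fittingSubgroup H ≤ centralizer (A : Set H) := by
        rw [Subgroup.le_centralizer_iff]; exact h1
      rw [hC] at h2
      exact h2.trans bot_le
  · exact Lib.GenFitting.component_le_genFitting hcomp

/-- A nontrivial finite group has a minimal normal subgroup. -/
theorem exists_minimal_normal [Nontrivial G] : ∃ A : Subgroup G, A.Normal ∧ A ≠ ⊥ ∧
    ∀ M : Subgroup G, M.Normal → M ≤ A → M = ⊥ ∨ M = A := by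
  obtain ⟨A, hA, hAmin⟩ : ∃ A : Subgroup G, Minimal (fun A : Subgroup G => A.Normal ∧ A ≠ ⊥) A :=
    (Set.toFinite {A : Subgroup G | A.Normal ∧ A ≠ ⊥}).exists_minimal ⟨⊤, inferInstance, top_ne_bot⟩
  refine ⟨A, hA.1, hA.2, fun M hM hMA => ?_⟩
  by_cases h : M = ⊥
  · exact Or.inl h
  · exact Or.inr (le_antisymm hMA (hAmin ⟨hM, h⟩ hMA))

/-- **The reduction.** -/
theorem main (V : Subgroup G) (hV : Cfsg.IsElementaryAbelian 2 V) (hV1 : V ≠ ⊥) (hS : Cfsg.IsSidkiPair V)
    (hVO : V ⊓ Cfsg.pCore 2 G = ⊥) (hmin : Min.{u} (Nat.card G)) :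
    IsSimpleGroup ↥(Cfsg.generalizedFittingSubgroup G) ∧
      ¬ IsMulCommutative ↥(Cfsg.generalizedFittingSubgroup G) ∧ V ⊔ Cfsg.generalizedFittingSubgroup G = ⊤ := by
  have hO := core_eq_bot hmin hV hV1 hS hVO
  haveI : Nontrivial G := by
    obtain ⟨x, hx⟩ := Subgroup.ne_bot_iff_exists_ne_one.1 hV1
    exact ⟨x, 1, fun h => hx (Subtype.ext h)⟩
  obtain ⟨A, hA, hA1, hAmin⟩ := exists_minimal_normal (G := G)
  have hC := centralizer_eq_bot hmin hO hV hV1 hS hA1 hAmin
  have hAV := sup_eq_top hmin hO hV hV1 hS hC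
  obtain ⟨hs, hnc⟩ := isSimple hmin hO hV hV1 hS hA1 hAmin hC hAV
  have hF := genFitting_eq hA hs hnc hC
  rw [hF]
  exact ⟨hs, hnc, by rw [sup_comm]; exact hAV⟩

end Cfsg.Agent.H273.Sidki
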